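import Groth.Agent.H29RR.Invert
import Groth.Agent.H22Alg.ExtPowSES
import Groth.Agent.H17.PnExt.LocFreeExt
import Groth.Agent.H02CA.Euler.EndTwist

/-!
# Lifting and extending maps through short exact sequences; twisting scalars
-/

set_option autoImplicit false
set_option linter.style.haveILetI false
set_option backward.isDefEq.respectTransparency false
set_option maxHeartbeats 800000
universe u

open CategoryTheory CategoryTheory.Limits AlgebraicGeometry Opposite

namespace Groth.Agent.H02CA.VBPn

attribute [local instance 10000] H10Coh.hasSheafifyAb H10Coh.hasWeakSheafifyAb H10Coh.hasExtAb H10Coh.enoughInjAb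

open H29RR H16Derived.KFlat.Stalk H10Coh.SheafHom H06Mod

variable (k : Type u) [Field k] {X : Scheme.{u}} [X.Over (Spec (CommRingCat.of k))]

include k in
/-- The right-hand term has no cohomology if the middle has none and the left has none one degree up. -/
theorem subsingleton_HH_right {S : ShortComplex X.Modules} (hS : S.ShortExact) (q : ℕ)
    (h₂ : Subsingleton (Coh.HH X S.X₂ q)) (h₁ : Subsingleton (Coh.HH X S.X₁ (q + 1))) :
    Subsingleton (Coh.HH X S.X₃ q) := by
  refine subsingleton_of_forall_eq 0 fun x => ?_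
  obtain ⟨y, hy⟩ := Abelian.Ext.covariant_sequence_exact₃ _ (H10Coh.shortExact_sh hS) x (n₁ := q + 1) rfl (h₁.elim _ _)
  rw [← hy]
  exact (congrArg (fun z => Abelian.Ext.comp z _ (add_zero q)) (h₂.elim y 0)).trans (Abelian.Ext.zero_comp ..)

include k in
/-- Maps out of an invertible module lift through an epimorphism. -/
theorem exists_lift_of_h1 {S : ShortComplex X.Modules} (hS : S.ShortExact) {L L' : X.Modules}
    (hL' : PicF.IsInvertible L') (e : CohB1.tensorMod L L' ≅ Coh.structureModule X)
    (h1 : Subsingleton (Coh.HH X (CohB1.tensorMod S.X₁ L') 1)) (f : L ⟶ S.X₃) :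
    ∃ g : L ⟶ S.X₂, g ≫ S.g = f := by
  haveI := hS.mono_f
  haveI := hS.epi_g
  haveI : Epi (pullback.snd S.g f) := inferInstance
  let ι : S.X₁ ⟶ pullback S.g f := pullback.lift S.f 0 (by rw [S.zero, zero_comp])
  have hι : ι ≫ pullback.fst S.g f = S.f := pullback.lift_fst _ _ _
  haveI : Mono ι := mono_of_mono_fac hι
  have hT : (ShortComplex.mk ι (pullback.snd S.g f) (pullback.lift_snd _ _ _)).ShortExact :=
    { exact := ShortComplex.exact_of_f_is_kernel _ (KernelFork.IsLimit.ofι' _ _ fun {A} x hx => by
        have hxs : x ≫ pullback.snd S.g f = 0 := hx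
        have hx' : (x ≫ pullback.fst S.g f) ≫ S.g = 0 := by
          rw [Category.assoc, pullback.condition, ← Category.assoc, hxs, zero_comp]
        exact ⟨hS.exact.lift _ hx', by
          apply pullback.hom_ext
          · rw [Category.assoc, hι, ShortComplex.Exact.lift_f]
          · rw [Category.assoc, pullback.lift_snd, comp_zero, hxs]⟩) }
  haveI : IsSplitEpi (pullback.snd S.g f) := isSplitEpi_of_h1 (k := k) hT hL' e h1
  exact ⟨section_ (pullback.snd S.g f) ≫ pullback.fst S.g f, by
    rw [Category.assoc, pullback.condition, ← Category.assoc, IsSplitEpi.id, Category.id_comp]⟩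

include k in
/-- Maps out of the kernel of a map to an invertible module extend. -/
theorem exists_extend_of_h1 {S : ShortComplex X.Modules} (hS : S.ShortExact) {T L' : X.Modules}
    (hL' : PicF.IsInvertible L') (e : CohB1.tensorMod S.X₃ L' ≅ Coh.structureModule X)
    (h1 : Subsingleton (Coh.HH X (CohB1.tensorMod T L') 1)) (ψ : S.X₁ ⟶ T) :
    ∃ g : S.X₂ ⟶ T, S.f ≫ g = ψ := by
  haveI := hS.mono_f
  haveI := hS.epi_g
  let g : pushout ψ S.f ⟶ S.X₃ := pushout.desc 0 S.g (by rw [comp_zero, S.zero])
  have hg : pushout.inl ψ S.f ≫ g = 0 := pushout.inl_desc _ _ _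
  haveI : Epi g := by
    haveI : Epi (pushout.inr ψ S.f ≫ g) := by rw [pushout.inr_desc]; infer_instance
    exact epi_of_epi (pushout.inr ψ S.f) g
  let S' : ShortComplex X.Modules := ShortComplex.mk (pushout.inl ψ S.f) g hg
  have hdesc : ∀ {W : X.Modules} (w : pushout ψ S.f ⟶ W), pushout.inl ψ S.f ≫ w = 0 →
      S.f ≫ pushout.inr ψ S.f ≫ w = 0 := fun w hw => by
    rw [← Category.assoc, ← pushout.condition, Category.assoc, hw, comp_zero]
  have hS' : S'.ShortExact := by
    refine { exact := ShortComplex.exact_of_g_is_cokernel _ ?_, mono_f := inferInstanceAs (Mono (pushout.inl ψ S.f)), epi_g := ‹Epi g› }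
    refine CokernelCofork.IsColimit.ofπ' g hg fun {W} w hw =>
      ⟨hS.exact.desc (pushout.inr ψ S.f ≫ w) (hdesc w hw), ?_⟩
    refine pushout.hom_ext ?_ ?_
    · rw [← Category.assoc, hg, zero_comp, hw]
    · rw [← Category.assoc, pushout.inr_desc]
      exact hS.exact.g_desc _ _
  haveI := isSplitEpi_of_h1 (k := k) hS' hL' e h1
  haveI := hS'.mono_f
  let sp := ShortComplex.Splitting.ofExactOfSection S' hS'.exact (section_ S'.g) (IsSplitEpi.id S'.g) inferInstance
  refine ⟨pushout.inr ψ S.f ≫ sp.r, ?_⟩
  rw [← Category.assoc, ← pushout.condition, Category.assoc]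
  exact (congrArg (ψ ≫ ·) sp.f_r).trans (Category.comp_id ψ)

variable {k}

/-- Twisting carries a scalar to the same scalar. -/
theorem twist_map_smulModΓ (M N : X.Modules) (r : Coh.Γtop X) :
    (twist M).map (Formal.smulModΓ N r) = Formal.smulModΓ (CohB1.tensorMod N M) r := by
  show ((DCoh.tensorBi (X := X)).map (Formal.smulModΓ N r)).app M = _
  refine tensor_ext fun U n m => ?_
  refine (H22Alg.ExtPowSES.map_app_tensorSect (Formal.smulModΓ N r) U n m).trans ?_
  refine (congrArg (fun t => tensorSect U t m) (KLin.smulModΓ_app_apply N _ U n)).trans ?_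
  exact (tensorSect_smul_left _ n m).trans (KLin.smulModΓ_app_apply (CohB1.tensorMod N M) _ U _).symm

end Groth.Agent.H02CA.VBPn
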