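import Groth.Agent.H22Alg.MumfordStep
import Groth.Agent.H22Alg.ESZ
import Groth.Agent.H17.PnExt.LocFreeExt
import Groth.Agent.H17.Image
import Groth.Agent.H02CA.Euler.Restrict
import Groth.Agent.H29RR.Twist
import Groth.Agent.LeadPic.PnRel

/-!
# Cutting bundles on projective space by hyperplanes
-/

set_option autoImplicit false
set_option linter.style.haveILetI false
set_option maxHeartbeats 1600000
universe u

open CategoryTheory CategoryTheory.Limits AlgebraicGeometry TopologicalSpace Opposite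
open Groth.Agent Groth.Agent.H11Tilde
open CohB1 (polyGrading)

namespace Groth.Agent.H02CA.VBPn

attribute [local instance 10000] H10Coh.hasSheafifyAb H10Coh.hasWeakSheafifyAb H10Coh.hasExtAb H10Coh.enoughInjAb

open H22Alg

variable {k : Type u} [Field k] {n : ℕ}

local notation "P" => CohB1.ProjSpace (n + 1) k
local notation "O(" d ")" => Twist.twistProjSpace (n + 1) k d
local notation "O'(" d ")" => Twist.twistProjSpace n k d

theorem form_mem (a : Fin (n + 2) → k) : HyperplaneAlg.form a ∈ polyGrading (n + 1) k 1 :=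
  (MvPolynomial.mem_homogeneousSubmodule 1 _).2
    (MvPolynomial.IsHomogeneous.sum _ _ _ fun t _ => MvPolynomial.isHomogeneous_C_mul_X _ _)

theorem form_ne_zero {a : Fin (n + 2) → k} {p : Fin (n + 2)} (hp : a p ≠ 0) : HyperplaneAlg.form a ≠ 0 := fun h => by
  have h' := congrArg (MvPolynomial.coeff (Finsupp.single p 1)) h
  rw [HyperplaneAlg.form, MvPolynomial.coeff_sum, Finset.sum_eq_single p (fun b _ hb => by
    rw [MvPolynomial.coeff_C_mul, MvPolynomial.coeff_X', if_neg (fun e => hb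
      ((Finsupp.single_left_injective one_ne_zero) e)), mul_zero]) (by simp),
    MvPolynomial.coeff_C_mul, MvPolynomial.coeff_X', if_pos rfl, mul_one, MvPolynomial.coeff_zero] at h'
  exact hp h'

/-- The restriction sequence of a bundle and the zero scheme of a section of `L`. -/
theorem exists_seq_gen {X Z : Scheme.{u}} [IsLocallyNoetherian X] [IsLocallyNoetherian Z] (e : Z ⟶ X)
    [IsClosedImmersion e] {L : X.Modules} (s : Coh.structureModule X ⟶ L) [Mono s] (hL : PicF.IsInvertible L)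
    (hker : PicF2.zeroScheme L s = e.ker) {F G : X.Modules} (hF : FlatMod.IsFinLocFree F)
    (e2 : CohB1.tensorMod F L ≅ G) {G' : Z.Modules} (eG : (Scheme.Modules.pullback e).obj G ≅ G') :
    ∃ S : ShortComplex X.Modules, S.ShortExact ∧ Nonempty (S.X₁ ≅ F) ∧ Nonempty (S.X₂ ≅ G) ∧
      ∀ q : ℕ, (Subsingleton (Coh.HH X S.X₃ q) ↔ Subsingleton (Coh.HH Z G' q)) := by
  haveI : DCoh.HasSheafHom F := H10Coh.SheafHom.hasSheafHom F
  haveI := H17.PnExt.preservesMonomorphisms_tensor hF
  have hm : Mono (((DCoh.tensorBi (X := X)).obj F).map s) := Functor.map_mono _ s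
  haveI : Mono (SectionCut.mul s F) := mono_comp' inferInstance hm
  let S := ShortComplex.mk (SectionCut.mul s F) (cokernel.π _) (cokernel.condition _)
  have hS : S.ShortExact := { exact := ShortComplex.exact_cokernel _ }
  let C := cokernel (SectionCut.mul s F)
  haveI hunit : IsIso ((Scheme.Modules.pullbackPushforwardAdjunction e).unit.app C) :=
    H16Derived.ProjFormula.isIso_unit_of_killed e (SectionCut.killed_cokernel s e hL hker F)
  obtain ⟨e₁⟩ := MumfordStep.nonempty_pull_cokernel e s hL hker F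
  let eR : (Scheme.Modules.pullback e).obj C ≅ G' := e₁ ≪≫ (Scheme.Modules.pullback e).mapIso e2 ≪≫ eG
  haveI hQC : ((Scheme.Modules.pullback e).obj C).IsQuasicoherent :=
    (H17.ConsProp.isCoh_pullback e (H10Coh.isCoh_cokernel _ (H10Coh.Tw.isCoh_of_vb hF).1
      (H11Ample.isCoh_tensor (H10Coh.Tw.isCoh_of_vb hF) hL))).1
  refine ⟨S, hS, ⟨Iso.refl _⟩, ⟨e2⟩, fun q => ?_⟩
  have h1 : Subsingleton (Coh.HH X C q) ↔ Subsingleton (Coh.HH X ((Coh.push e).obj ((Scheme.Modules.pullback e).obj C)) q) :=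
    ⟨fun h => H10Coh.subsingleton_HH_of_iso (@asIso _ _ _ _ _ hunit) q h,
      fun h => H10Coh.subsingleton_HH_of_iso (@asIso _ _ _ _ _ hunit).symm q h⟩
  refine h1.trans (Iff.trans ?_ ⟨fun h => H10Coh.subsingleton_HH_of_iso eR q h, fun h => H10Coh.subsingleton_HH_of_iso eR.symm q h⟩)
  rw [← CMField.van_iff, ← CMField.van_iff]
  exact (H10Coh.affineLerayEquiv e ((Scheme.Modules.pullback e).obj C) q ⊤).toEquiv.subsingleton_congr

/-- The section cutting out a hyperplane. -/
theorem exists_cutting_section (a : Fin (n + 2) → k) (p : Fin (n + 2)) (hp : a p ≠ 0) :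
    ∃ s : Coh.structureModule P ⟶ O(1), Mono s ∧ PicF2.zeroScheme O(1) s = (HyperplanePn.emb a p).ker ∧
      Nonempty ((Scheme.Modules.pullback (HyperplanePn.emb a p)).obj O(1) ≅ O'(1)) := by
  obtain ⟨s, h₁, -, h₂, h₃⟩ := MumfordStep.exists_hyperplane a p hp (form_mem a) (form_ne_zero hp)
  exact ⟨s, h₁, h₂, h₃⟩

/-- The restriction sequence of a bundle and a hyperplane. -/
theorem exists_seq (a : Fin (n + 2) → k) (p : Fin (n + 2)) (hp : a p ≠ 0) {E : (P).Modules}
    (hE : FlatMod.IsFinLocFree E) (j : ℤ) :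
    ∃ S : ShortComplex (P).Modules, S.ShortExact ∧ Nonempty (S.X₁ ≅ CohB1.tensorMod E O(j - 1)) ∧
      Nonempty (S.X₂ ≅ CohB1.tensorMod E O(j)) ∧
      ∀ q : ℕ, (Subsingleton (Coh.HH P S.X₃ q) ↔ Subsingleton (Coh.HH (CohB1.ProjSpace n k)
        (CohB1.tensorMod ((Scheme.Modules.pullback (HyperplanePn.emb a p)).obj E) O'(j)) q)) := by
  haveI := CMHyper.noetherian k (n + 1)
  haveI := CMHyper.noetherian k n
  have hT := H10Coh.Stab.isTwistFamily_projSpace (n + 1) k
  have hT' := H10Coh.Stab.isTwistFamily_projSpace n k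
  obtain ⟨s, hsm, hker, ⟨eL⟩⟩ := exists_cutting_section a p hp
  haveI := hsm
  let e : CohB1.ProjSpace n k ⟶ P := HyperplanePn.emb a p
  haveI he : IsClosedImmersion e := HyperplanePn.isClosedImmersion_emb a p
  obtain ⟨t⟩ := hT.add (j - 1) 1
  obtain ⟨τ⟩ := MumfordStep.fam_unique (hT.pullback e) hT' eL j
  exact exists_seq_gen e s (hT.inv 1) hker
    (H16Derived.KFlat.Stalk.isFinLocFree_tensor hE (H28Pinch.isFinLocFree_of_isInvertible (hT.inv (j - 1))))
    (H10Coh.Tw.assoc E O(j - 1) O(1) ≪≫ PicGrp.tensorModIso (Iso.refl E) (t ≪≫ eqToIso (congrArg _ (sub_add_cancel j 1))))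
    (((H16Derived.KFlat.Stalk.pullTensorLIso e O(j)).app E) ≪≫ PicGrp.tensorModIso (Iso.refl _) τ)

/-- Vanishing propagates from a hyperplane. -/
theorem subsingleton_of_hyperplane (a : Fin (n + 2) → k) (p : Fin (n + 2)) (hp : a p ≠ 0) {E : (P).Modules}
    (hE : FlatMod.IsFinLocFree E) {q : ℕ} (hq : q < n + 1) {D : ℤ}
    (h : ∀ j ≤ D, Subsingleton (Coh.HH (CohB1.ProjSpace n k)
      (CohB1.tensorMod ((Scheme.Modules.pullback (HyperplanePn.emb a p)).obj E) O'(j)) q)) :
    Subsingleton (Coh.HH P (CohB1.tensorMod E O(D)) q) := by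
  obtain ⟨m₀, hm₀⟩ := ESZ.van_finLocFree (r := n + 1) (k := k) q hq E hE
  suffices H : ∀ (r : ℕ) (j : ℤ), j ≤ D → j ≤ (r : ℤ) - m₀ →
      Subsingleton (Coh.HH P (CohB1.tensorMod E O(j)) q) from H (D + m₀).toNat D le_rfl (by omega)
  intro r
  induction r with
  | zero =>
    intro j _ hj
    have := hm₀ (-j).toNat (by omega)
    rwa [show -(((-j).toNat : ℕ) : ℤ) = j by omega] at this
  | succ r ih =>
    intro j hjD hj
    obtain ⟨S, hS, ⟨e₁⟩, ⟨e₂⟩, h₃⟩ := exists_seq a p hp hE j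
    refine H10Coh.subsingleton_HH_of_iso e₂ q ?_
    rw [← CMField.van_iff]
    exact H10Coh.Tw.subsingleton_X₂ (H10Coh.shortExact_sh hS)
      (CMField.van_iff.2 (H10Coh.subsingleton_HH_of_iso e₁.symm q (ih (j - 1) (by omega) (by push_cast at hj; omega))))
      (CMField.van_iff.2 ((h₃ q).2 (h j hjD)))

/-- Vanishing passes to a hyperplane. -/
theorem subsingleton_restrict (a : Fin (n + 2) → k) (p : Fin (n + 2)) (hp : a p ≠ 0) {E : (P).Modules}
    (hE : FlatMod.IsFinLocFree E) {q : ℕ} (j : ℤ) (h₂ : Subsingleton (Coh.HH P (CohB1.tensorMod E O(j)) q))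
    (h₁ : Subsingleton (Coh.HH P (CohB1.tensorMod E O(j - 1)) (q + 1))) :
    Subsingleton (Coh.HH (CohB1.ProjSpace n k)
      (CohB1.tensorMod ((Scheme.Modules.pullback (HyperplanePn.emb a p)).obj E) O'(j)) q) := by
  obtain ⟨S, hS, ⟨e₁⟩, ⟨e₂⟩, h₃⟩ := exists_seq a p hp hE j
  refine (h₃ q).1 (CMField.van_iff.1 (H10Coh.Tw.subsingleton_X₃ (H10Coh.shortExact_sh hS)
    (CMField.van_iff.2 (H10Coh.subsingleton_HH_of_iso e₂.symm q h₂))
    (CMField.van_iff.2 (H10Coh.subsingleton_HH_of_iso e₁.symm (q + 1) h₁))))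

/-- The embedded hyperplane contains the zero locus of its form. -/
theorem mem_range_emb (a : Fin (n + 2) → k) (p : Fin (n + 2)) (hp : a p ≠ 0) (x : P)
    (hx : HyperplaneAlg.form a ∈ x.asHomogeneousIdeal.toIdeal) :
    x ∈ Set.range (HyperplanePn.emb a p).base := by
  let σ : polyGrading n k →+*ᵍ polyGrading (n + 1) k :=
    { (HyperplaneAlg.sec p).toRingHom with map_mem := fun {_ _} h => HyperplaneAlg.sec_mem p h }
  have key : ∀ z, HyperplaneAlg.sec p (HyperplaneAlg.hom a p z) ∈ x.asHomogeneousIdeal.toIdeal ↔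
      z ∈ x.asHomogeneousIdeal.toIdeal := by
    intro z
    have h : z - HyperplaneAlg.sec p (HyperplaneAlg.hom a p z) ∈ x.asHomogeneousIdeal.toIdeal := by
      obtain ⟨q, hq⟩ := (HyperplaneAlg.form_dvd_iff hp (z - HyperplaneAlg.sec p (HyperplaneAlg.hom a p z))).1 (by
        rw [map_sub, HyperplaneAlg.hom_sec, sub_self])
      rw [hq]
      exact Ideal.mul_mem_right _ _ hx
    exact ⟨fun hz => by simpa using Ideal.add_mem _ h hz, fun hz => by simpa using Ideal.sub_mem _ hz h⟩
  have hprime : (x.asHomogeneousIdeal.comap σ).toIdeal.IsPrime := by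
    haveI := x.isPrime
    exact Ideal.comap_isPrime σ x.asHomogeneousIdeal.toIdeal
  have hirr : ¬ HomogeneousIdeal.irrelevant (polyGrading n k) ≤ x.asHomogeneousIdeal.comap σ := fun hle => by
    obtain ⟨t, ht⟩ := H11Ample.exists_mem_basicOpen_X (n := n + 1) (R := k) x
    exact ht ((key _).1 (hle (HomogeneousIdeal.mem_irrelevant_of_mem _ Nat.one_pos
      (HyperplaneAlg.hom_mem a p (MvPolynomial.isHomogeneous_X k t)))))
  refine ⟨⟨x.asHomogeneousIdeal.comap σ, hprime, hirr⟩, ?_⟩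
  refine ProjectiveSpectrum.ext ?_
  exact HomogeneousIdeal.ext (Ideal.ext fun z => key z)

end Groth.Agent.H02CA.VBPn
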