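import Groth.Agent.H02CA.VBPn.Split
import Groth.Agent.H17.Horrocks.Main
import Groth.Agent.H17.PnExt.Shape
import Groth.Agent.H10Coh.AffineAmple
import Groth.Agent.H22Alg.CMStep
import Groth.Agent.S11301

/-!
# Resolutions by twisting sheaves in negative degrees
-/

set_option autoImplicit false
set_option linter.style.haveILetI false
set_option backward.isDefEq.respectTransparency false
set_option synthInstance.maxHeartbeats 400000
set_option maxHeartbeats 1600000
universe u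

open CategoryTheory CategoryTheory.Limits CategoryTheory.Abelian AlgebraicGeometry TopologicalSpace
open Groth.Agent Groth.Agent.H10Coh Groth.Agent.H17.Horrocks

namespace Groth.Agent.H02CA.VBPn

attribute [local instance 10000] hasSheafifyAb hasWeakSheafifyAb hasExtAb enoughInjAb
attribute [local instance] H29RR.PnPic.overSpec

variable {k : Type u} [Field k] {d : ℕ}

local notation "P" => Proj (Pn.Gr d k)

noncomputable instance overProj : (P).Over (Spec (CommRingCat.of k)) := H29RR.PnPic.overSpec d k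

theorem h0_injective_of_mono {M N : (P).Modules} (f : M ⟶ N) [Mono f] (h : Subsingleton (Coh.HH P N 0)) :
    Subsingleton (Coh.HH P M 0) := by
  refine subsingleton_of_forall_eq 0 fun x => (HH0Equiv M).injective ?_
  have hj : Function.Injective (f.app ⊤) := H10Coh.injective_app_of_mono' f ⊤
  refine hj ((HH0_map f x).symm.trans ?_)
  rw [h.elim (Hf f 0 x) 0, map_zero, map_zero, map_zero]

theorem h1_kernel_of_surjective {S : ShortComplex (P).Modules} (hS : S.ShortExact)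
    (h₂ : Subsingleton (Coh.HH P S.X₂ 1)) (hsur : Function.Surjective (Hf S.g 0)) :
    Subsingleton (Coh.HH P S.X₁ 1) := by
  refine subsingleton_of_forall_eq 0 fun x => ?_
  obtain ⟨y, hy⟩ := Abelian.Ext.covariant_sequence_exact₁ _ (H10Coh.shortExact_sh hS) x
    (@Subsingleton.elim (Coh.HH P S.X₂ 1) h₂ _ _) rfl
  obtain ⟨z, rfl⟩ := hsur y
  rw [← hy]
  show (z.comp (Abelian.Ext.mk₀ ((shF P).map S.g)) (add_zero 0)).comp (H10Coh.shortExact_sh hS).extClass rfl = 0
  rw [Abelian.Ext.comp_assoc_of_second_deg_zero]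
  exact (congrArg (fun e => z.comp e rfl) (H10Coh.shortExact_sh hS).comp_extClass).trans (Abelian.Ext.comp_zero _ _ _ _ _)

theorem h0_surjective_of_h1 {S : ShortComplex (P).Modules} (hS : S.ShortExact)
    (h : Subsingleton (Coh.HH P S.X₁ 1)) : Function.Surjective (Hf S.g 0) := fun x =>
  Abelian.Ext.covariant_sequence_exact₃ _ (H10Coh.shortExact_sh hS) x (n₁ := 1) rfl
    (@Subsingleton.elim (Coh.HH P S.X₁ 1) h _ _)

/-- A map out of a twisting sheaf with a prescribed section in its image. -/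
theorem exists_hom_hits (F : (P).Modules) (j : ℤ) (x : Coh.HH P ((T d k j).obj F) 0) :
    ∃ h : Pn.Od d k (-j) ⟶ F, x ∈ Set.range (Hf ((T d k j).map h) 0) := by
  let U := Coh.structureModule P
  obtain ⟨e₀⟩ := H11Tilde.nonempty_twist_zero_iso (Pn.Gr d k)
  obtain ⟨e₁⟩ := nonempty_T_od (n := d) (R := k) (show (0 : ℤ) = j + -j by omega)
  let e : (T d k j).obj (Pn.Od d k (-j)) ≅ U := e₁ ≪≫ e₀
  let g : U ⟶ (T d k j).obj F := H11Tilde.homOfGlobal _ (HH0Equiv _ x)
  refine ⟨(T d k j).preimage (e.hom ≫ g), ?_⟩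
  refine ⟨Hf e.inv 0 ((HH0Equiv U).symm (show Γ(U, ⊤) from (1 : Γ(P, ⊤)))), (HH0Equiv _).injective ?_⟩
  rw [Functor.map_preimage, ← Hf_comp, Iso.inv_hom_id_assoc, HH0_map, AddEquiv.apply_symm_apply]
  show (H11Tilde.homOfGlobal _ (HH0Equiv _ x)).app ⊤ _ = _
  rw [H11Tilde.homOfGlobal_app]
  refine (one_smul Γ(P, ⊤) _).trans ?_
  exact congr($(((T d k j).obj F).presheaf.map_id (Opposite.op ⊤)) (HH0Equiv _ x))

theorem surjective_of_factor {A B C : (P).Modules} (u : A ⟶ B) (φ : B ⟶ C)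
    (h : Function.Surjective (Hf (u ≫ φ) 0)) : Function.Surjective (Hf φ 0) := fun y => by
  obtain ⟨x, rfl⟩ := h y
  exact ⟨Hf u 0 x, (Hf_comp u φ x).symm⟩

/-- Finitely many twisting sheaves mapping onto all sections in finitely many degrees. -/
theorem exists_hits {F : (P).Modules} (hF : Coh.IsCoh F) (m : ℕ) :
    ∃ (ι : Type) (_ : Fintype ι) (a : ι → ℤ) (h : ∀ i, Pn.Od d k (a i) ⟶ F),
      (∀ i, a i < 0) ∧ ∀ j : ℕ, 1 ≤ j → j < m → Submodule.span k {x : Coh.HH P ((T d k (j : ℤ)).obj F) 0 |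
        ∃ i, a i = -(j : ℤ) ∧ x ∈ Set.range (Hf ((T d k (j : ℤ)).map (h i)) 0)} = ⊤ := by
  haveI : IsProper (P ↘ Spec (CommRingCat.of k)) := H27Weil.isProper_toSpec d k
  haveI := H29RR.isNoetherian_of_proper (k := k) (X := P)
  haveI hfin : ∀ j : ℤ, Module.Finite k (Coh.HH P ((T d k j).obj F) 0) := fun j =>
    H10Coh.finite_HH_proper k _ _ (isCoh_T j hF) 0
  let r : ℕ → ℕ := fun j => Module.finrank k (Coh.HH P ((T d k (j : ℤ)).obj F) 0)
  let B := fun j : ℕ => Module.finBasis k (Coh.HH P ((T d k (j : ℤ)).obj F) 0)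
  choose H hH using fun (j : ℕ) (l : Fin (r j)) => exists_hom_hits F (j : ℤ) (B j l)
  refine ⟨Σ j : Fin m, Fin (if j.1 = 0 then 0 else r j.1), inferInstance, fun i => -(i.1.1 : ℤ),
    fun i => H i.1.1 (i.2.castLE (by split <;> omega)), fun i => ?_, fun j h1 hjm => ?_⟩
  · obtain ⟨⟨j, hj⟩, l⟩ := i
    have := l.2
    rcases Nat.eq_zero_or_pos j with rfl | h
    · simp at this
    · simp; omega
  · refine top_le_iff.1 ((B j).span_eq.symm.trans_le (Submodule.span_mono ?_))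
    rintro _ ⟨l, rfl⟩
    exact ⟨⟨⟨j, hjm⟩, ⟨l.1, by rw [if_neg (show ¬ j = 0 by omega)]; exact l.2⟩⟩, rfl, hH j l⟩

/-- A regular bundle receives all sections in high degrees from one step. -/
theorem surjective_of_vanishing {G F : (P).Modules} (φ₀ : G ⟶ F) [Epi φ₀] (j : ℤ)
    (h : Subsingleton (Coh.HH P ((T d k j).obj (kernel φ₀)) 1)) : Function.Surjective (Hf ((T d k j).map φ₀) 0) := by
  exact h0_surjective_of_h1 (S := (ShortComplex.mk (kernel.ι φ₀) φ₀ (kernel.condition φ₀)).map (T d k j))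
    ((show (ShortComplex.mk (kernel.ι φ₀) φ₀ (kernel.condition φ₀)).ShortExact from
      { exact := ShortComplex.exact_of_f_is_kernel _ (kernelIsKernel _) }).map_of_exact (T d k j)) h

/-- The one-step presentation of a regular bundle, in both notations. -/
theorem exists_step [IsAlgClosed k] {F : (CohB1.ProjSpace d k).Modules} (hFc : Coh.IsCoh F) (m : ℤ)
    (hreg : Curv2.IsMRegular k d F m) :
    ∃ (b : ℕ) (φ₀ : (∐ fun _ : Fin b => Pn.Od d k (-m)) ⟶ F), Epi φ₀ ∧
      ∀ j : ℤ, m ≤ j → Subsingleton (Coh.HH (CohB1.ProjSpace d k) ((T d k j).obj (kernel φ₀)) 1) := by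
  haveI : IsProper (CohB1.ProjSpace d k ↘ Spec (CommRingCat.of k)) := H27Weil.isProper_toSpec d k
  haveI := H29RR.isNoetherian_of_proper (k := k) (X := CohB1.ProjSpace d k)
  have key : ∀ L : ℤ → (CohB1.ProjSpace d k).Modules, (∀ c, L c = Pn.Od d k c) →
      (∃ (b : ℕ) (φ₀ : (∐ fun _ : Fin b => L (-m)) ⟶ F), Epi φ₀ ∧
        ∀ j : ℤ, m ≤ j → Subsingleton (Coh.HH (CohB1.ProjSpace d k) (CohB1.tensorMod (kernel φ₀) (L j)) 1)) →
      ∃ (b : ℕ) (φ₀ : (∐ fun _ : Fin b => Pn.Od d k (-m)) ⟶ F), Epi φ₀ ∧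
        ∀ j : ℤ, m ≤ j → Subsingleton (Coh.HH (CohB1.ProjSpace d k) ((T d k j).obj (kernel φ₀)) 1) := by
    intro L hL
    obtain rfl : L = fun c => Pn.Od d k c := funext hL
    rintro ⟨b, φ₀, he, h⟩
    exact ⟨b, φ₀, he, fun j hj => (van_swap_iff (kernel φ₀) j 1).1 (h j hj)⟩
  refine key (fun c => Twist.twistProjSpace d k c) (fun c => H17.PnExt.od_eq d k c) ?_
  obtain ⟨b, φ₀, hφ₀, hreg₀⟩ := (S11301.result k d F hFc m).1 hreg
  refine ⟨b, φ₀, hφ₀, fun j hj => ?_⟩
  have hc : Coh.IsCoh (kernel φ₀) := H10Coh.isCoh_kernel φ₀ (isCoh_sigma _ fun _ =>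
    H11Ample.isCoh_of_isInvertible ((H10Coh.Stab.isTwistFamily_projSpace d k).inv _)) hFc.1
  have hr := H22Alg.CMField.reg_add (H22Alg.CMField.setup k d) ((H22Alg.CMField.reg_iff hc _).2 hreg₀) (j - m).toNat
  have h1' := H22Alg.CMField.van_iff.1 (hr 1 le_rfl)
  rwa [show (m + 1 + ((j - m).toNat : ℤ) - ((1 : ℕ) : ℤ)) = j by omega] at h1'

/-- A bundle without sections in nonpositive degrees on the plane is a quotient of two sums of twisting sheaves of
negative degree. -/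
theorem exists_resolution [IsAlgClosed k] (hd : d = 2) {F : (P).Modules} (hF : FlatMod.IsFinLocFree F)
    (h0 : ∀ j : ℤ, j ≤ 0 → Subsingleton (Coh.HH P ((T d k j).obj F) 0)) :
    ∃ (r s : ℕ) (kk : Fin r → ℤ) (mm : Fin s → ℤ) (S : ShortComplex (P).Modules),
      S.ShortExact ∧ (∀ i, kk i < 0) ∧ (∀ j, mm j < 0) ∧
      Nonempty (S.X₁ ≅ ∐ fun i : Fin r => Pn.Od d k (kk i)) ∧
      Nonempty (S.X₂ ≅ ∐ fun j : Fin s => Pn.Od d k (mm j)) ∧ Nonempty (S.X₃ ≅ F) := by
  classical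
  haveI : IsProper (P ↘ Spec (CommRingCat.of k)) := H27Weil.isProper_toSpec d k
  haveI := H29RR.isNoetherian_of_proper (k := k) (X := P)
  have hFc : Coh.IsCoh F := H10Coh.Tw.isCoh_of_vb hF
  obtain ⟨d₀, hd₀⟩ := exists_high (k := k) (n := d) hFc
  let m : ℕ := (d₀ + d).toNat + 1
  have hreg : Curv2.IsMRegular k d F (m : ℤ) := fun i h1 h2 => hd₀ _ (by omega) i (by omega)
  obtain ⟨b, ψ, hψe, hker⟩ := exists_step (d := d) hFc (m : ℤ) hreg
  haveI := hψe
  obtain ⟨ι, _, a, h, ha, hspan⟩ := exists_hits hFc m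
  let e := Fintype.equivFin (Fin b ⊕ ι)
  let mm : Fin (Fintype.card (Fin b ⊕ ι)) → ℤ := fun t => Sum.elim (fun _ => -(m : ℤ)) a (e.symm t)
  let hh : ∀ x : Fin b ⊕ ι, Pn.Od d k (Sum.elim (fun _ => -(m : ℤ)) a x) ⟶ F := fun x =>
    match x with
    | Sum.inl t => Sigma.ι (fun _ : Fin b => Pn.Od d k (-(m : ℤ))) t ≫ ψ
    | Sum.inr i => h i
  let G := ∐ fun t => Pn.Od d k (mm t)
  let φ : G ⟶ F := Sigma.desc fun t => hh (e.symm t)
  have hfac : ∀ x, ∃ u : Pn.Od d k (Sum.elim (fun _ => -(m : ℤ)) a x) ⟶ G, u ≫ φ = hh x := by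
    intro x
    obtain ⟨t, rfl⟩ := e.symm.surjective x
    exact ⟨Sigma.ι (fun t => Pn.Od d k (mm t)) t, Sigma.ι_desc _ _⟩
  choose u hu using hfac
  have hψ : Sigma.desc (fun t => u (Sum.inl t)) ≫ φ = ψ :=
    Sigma.hom_ext _ _ fun t => by rw [← Category.assoc, Sigma.ι_desc]; exact hu (Sum.inl t)
  haveI : Epi φ := epi_of_epi_fac hψ
  have hmm : ∀ t, mm t < 0 := fun t => by
    show Sum.elim _ a (e.symm t) < 0
    cases e.symm t with
    | inl _ => simp [m]
    | inr i => exact ha i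
  let S := ShortComplex.mk (kernel.ι φ) φ (kernel.condition φ)
  have hS : S.ShortExact := { exact := ShortComplex.exact_of_f_is_kernel _ (kernelIsKernel _) }
  have hTS : ∀ j : ℤ, (S.map (T d k j)).ShortExact := fun j => hS.map_of_exact _
  have hG1 : ∀ (q : ℕ) (j : ℤ), (1 ≤ q ∧ q < d) ∨ (q = 0 ∧ j ≤ 0) → Subsingleton (Coh.HH P ((T d k j).obj G) q) :=
    fun q j hq => subsingleton_map_sigma _ (T d k j) q fun t => van_iso (nonempty_T_od (c := j + mm t) rfl).some.symm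
      (Pn.subsingleton_HH_Od q (by have := hmm t; rcases hq with ⟨a, b⟩ | ⟨a, b⟩ <;> omega)
        (by have := hmm t; rcases hq with ⟨a, b⟩ | ⟨a, b⟩ <;> omega))
  have hmid : Mid (kernel φ) := by
    intro j i h1 h2
    obtain rfl : i = 1 := by omega
    refine h1_kernel_of_surjective (hTS j) (hG1 1 j (Or.inl ⟨le_rfl, h2⟩)) ?_
    rcases le_or_gt j 0 with hj | hj
    · exact fun y => ⟨0, (h0 j hj).elim _ _⟩
    lift j to ℕ using hj.le
    rcases lt_or_ge j m with hjm | hjm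
    · have hle : (⊤ : Submodule k (Coh.HH P ((T d k (j : ℤ)).obj F) 0)) ≤
          LinearMap.range (Canon.HHlin k ((T d k (j : ℤ)).map φ) 0) := by
        rw [← hspan j (by omega) hjm]
        refine Submodule.span_le.2 ?_
        rintro x ⟨i, hi, y, rfl⟩
        refine ⟨Hf ((T d k (j : ℤ)).map (u (Sum.inr i))) 0 y, ?_⟩
        show Hf ((T d k (j : ℤ)).map φ) 0 _ = _
        rw [← Hf_comp, ← Functor.map_comp, hu]
        rfl
      exact fun y => hle (Submodule.mem_top (x := y))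
    · refine surjective_of_factor ((T d k (j : ℤ)).map (Sigma.desc fun t => u (Sum.inl t))) _ ?_
      show Function.Surjective (Hf ((T d k (j : ℤ)).map (Sigma.desc fun t => u (Sum.inl t)) ≫ (T d k (j : ℤ)).map φ) 0)
      rw [← Functor.map_comp, hψ]
      exact surjective_of_vanishing ψ (j : ℤ) (hker _ (by omega))
  have hlow : Low (kernel φ) := ⟨0, fun j hj => by
    haveI : Mono ((T d k j).map (kernel.ι φ)) := inferInstance
    exact h0_injective_of_mono ((T d k j).map (kernel.ι φ)) (hG1 0 j (Or.inr ⟨rfl, hj⟩))⟩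
  have hGf : FlatMod.IsFinLocFree G := H16Derived.KFlat.Stalk.isFinLocFree_sigma _ fun t => by
    rw [← H17.PnExt.od_eq d k (mm t)]
    exact H28Pinch.isFinLocFree_of_isInvertible ((H10Coh.Stab.isTwistFamily_projSpace d k).inv _)
  obtain ⟨r, kk, ⟨ek⟩⟩ := exists_iso_sum' (d := d) (k := k) (by omega)
    (H10Coh.Tw.isCoh_of_vb (H10Coh.Tw.isFinLocFree_kernel φ hGf hF)) hmid hlow
  refine ⟨r, _, kk, mm, S, hS, fun i => ?_, hmm, ⟨ek⟩, ⟨Iso.refl _⟩, ⟨Iso.refl _⟩⟩
  by_contra hi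
  have hz : Subsingleton (Coh.HH P G 0) := van_iso ((H17.Horrocks.TZeroIso).app G) (hG1 0 0 (Or.inr ⟨rfl, le_rfl⟩))
  haveI : IsSplitMono (Sigma.ι (fun i => Pn.Od d k (kk i)) i) :=
    IsSplitMono.mk' ⟨Euler.proj (fun i => Pn.Od d k (kk i)) i, by rw [Euler.ι_proj, dif_pos rfl]; rfl⟩
  exact not_nontrivial_iff_subsingleton.2 (h0_injective_of_mono
    (Sigma.ι (fun i => Pn.Od d k (kk i)) i ≫ ek.inv ≫ kernel.ι φ) hz) (nontrivial_H0_od (kk i) (by omega))

end Groth.Agent.H02CA.VBPn
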