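import Groth.Agent.H29RR.P1Split
import Groth.Agent.H29RR.Sections
import Groth.Agent.H29RR.Invert
import Groth.Agent.LeadPic.PnRel
import Groth.Agent.H19Grp.ProjPoint
import Groth.Agent.H10Coh.FinType2
import Groth.Prelude.Def_ClSub2

/-!
# Sections of twists in the sequence `0 → O → E → J(c) → 0` on projective space
-/

set_option autoImplicit false
set_option linter.style.haveILetI false
set_option maxHeartbeats 1600000
universe u

open CategoryTheory CategoryTheory.Limits AlgebraicGeometry TopologicalSpace Opposite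

namespace Groth.Agent.H02CA.VBPn

attribute [local instance 10000] H10Coh.hasSheafifyAb H10Coh.hasWeakSheafifyAb H10Coh.hasExtAb H10Coh.enoughInjAb

open H29RR

section General

variable (k : Type u) [Field k] {X : Scheme.{u}} [X.Over (Spec (CommRingCat.of k))]

include k in
/-- Vanishing of sections in a short exact sequence with vanishing `H¹` on the left. -/
theorem subsingleton_HH0_mid_iff {S : ShortComplex X.Modules} (hS : S.ShortExact)
    (h1 : Subsingleton (Coh.HH X S.X₁ 1)) :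
    Subsingleton (Coh.HH X S.X₂ 0) ↔ Subsingleton (Coh.HH X S.X₁ 0) ∧ Subsingleton (Coh.HH X S.X₃ 0) := by
  haveI := hS.mono_f
  have hinj : Function.Injective (Canon.HHlin k S.f 0) := fun a b hab => (sec (X := X) S.X₁).injective
    (H10Coh.injective_app_of_mono' S.f ⊤
      ((sec_natural (k := k) S.f a).symm.trans ((congrArg (sec S.X₂) hab).trans (sec_natural (k := k) S.f b))))
  have hsurj := H25Par.hhlin_surjective (k := k) hS h1
  refine ⟨fun h => ⟨@Function.Injective.subsingleton _ _ _ hinj h, @Function.Surjective.subsingleton _ _ _ h hsurj⟩, ?_⟩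
  rintro ⟨hl, hr⟩
  refine subsingleton_of_forall_eq 0 fun x => ?_
  have hx : x ∈ LinearMap.ker (Canon.HHlin k S.g 0) := hr.elim _ _
  rw [H25Par.hhlin_exact hS] at hx
  obtain ⟨y, rfl⟩ := hx
  rw [hl.elim y 0, map_zero]

end General

/-- A map out of the structure module is given by the image of one. -/
theorem eq_homOfGlobal {X : Scheme.{u}} {M : X.Modules} (φ : Coh.structureModule X ⟶ M) :
    φ = H11Tilde.homOfGlobal M (φ.app ⊤ (1 : Γ(X, ⊤))) := by
  refine Scheme.Modules.hom_ext _ _ fun V => ConcreteCategory.hom_ext _ _ fun r => ?_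
  rw [H11Tilde.homOfGlobal_app]
  refine Eq.trans ?_ (congrArg ((show Γ(X, V) from r) • ·) (H11Tilde.app_map_apply φ (le_top : V ≤ ⊤) (1 : Γ(X, ⊤))))
  refine Eq.trans ?_ (Scheme.Modules.Hom.app_smul φ _ _)
  refine congrArg (φ.app V) ?_
  show r = (show Γ(X, V) from r) * X.presheaf.map (homOfLE (le_top : V ≤ ⊤)).op (1 : Γ(X, ⊤))
  rw [map_one, mul_one]

/-- Twisting a morphism, with the types of `CohB1.tensorMod`. -/
noncomputable def tw {X : Scheme.{u}} (A : X.Modules) {F G : X.Modules} (φ : F ⟶ G) :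
    CohB1.tensorMod F A ⟶ CohB1.tensorMod G A := (twist A).map φ

theorem mono_twist_map {X : Scheme.{u}} {A : X.Modules} (hA : PicF.IsInvertible A) {F G : X.Modules}
    (φ : F ⟶ G) [Mono φ] : Mono (tw A φ) := by
  have hS : (ShortComplex.mk φ (cokernel.π φ) (cokernel.condition φ)).ShortExact :=
    { exact := ShortComplex.exact_cokernel _ }
  exact (H16Derived.KFlat.Stalk.isFlatObj_of_isFlat (H16Derived.KFlat.Stalk.isFlat_of_isFinLocFree
    (H28Pinch.isFinLocFree_of_isInvertible hA)) _ hS).mono_f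

/-- Multiplying a nonzero section of a twisted ideal into the sections of a line bundle. -/
theorem subsingleton_of_mul {X : Scheme.{u}} [IsIntegral X] [IsLocallyNoetherian X] {I A B : X.Modules}
    (ι : I ⟶ Coh.structureModule X) [Mono ι] (hA : PicF.IsInvertible A) (hB : PicF.IsInvertible B)
    (g : Γ(CohB1.tensorMod I A, ⊤)) (hg : g ≠ 0)
    [Subsingleton Γ(CohB1.tensorMod (CohB1.tensorMod I A) B, ⊤)] : Subsingleton Γ(B, ⊤) := by
  let σ : Coh.structureModule X ⟶ CohB1.tensorMod I A := H11Tilde.homOfGlobal _ g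
  haveI := mono_twist_map hA ι
  let κ : CohB1.tensorMod I A ⟶ A := tw A ι ≫ (H10Coh.Tw.leftUnitIso A).hom
  haveI : Mono κ := mono_comp _ _
  have hgg : σ.app ⊤ (1 : Γ(X, ⊤)) = g := by simp [σ, H11Tilde.homOfGlobal_app]
  have hne : (σ ≫ κ).app ⊤ (1 : Γ(X, ⊤)) ≠ 0 := fun h0 => hg <|
    H10Coh.injective_app_of_mono' κ ⊤ (((congrArg (κ.app ⊤) hgg.symm).trans h0).trans (map_zero _).symm)
  haveI : Mono (σ ≫ κ) := by
    rw [eq_homOfGlobal (σ ≫ κ)]
    exact (mono_homOfGlobal hA hne).1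
  haveI : Mono σ := mono_of_mono σ κ
  haveI := mono_twist_map hB σ
  let Φ : B ⟶ CohB1.tensorMod (CohB1.tensorMod I A) B := (H10Coh.Tw.leftUnitIso B).inv ≫ tw B σ
  haveI : Mono Φ := mono_comp _ _
  exact (H10Coh.injective_app_of_mono' Φ ⊤).subsingleton

variable {k : Type u} [Field k] {n : ℕ}

attribute [local instance] PnPic.overSpec

local notation "P" => CohB1.ProjSpace n k
local notation "O(" d ")" => Twist.twistProjSpace n k d

theorem tensor_zero_iso (d : ℤ) : Nonempty (CohB1.tensorMod (Coh.structureModule P) O(d) ≅ O(d)) :=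
  ⟨H10Coh.Tw.leftUnitIso _⟩

theorem twist_twist_iso (F : (P).Modules) {a b e : ℤ} (h : a + b = e) :
    Nonempty (CohB1.tensorMod (CohB1.tensorMod F O(a)) O(b) ≅ CohB1.tensorMod F O(e)) := by
  obtain ⟨i⟩ := (H10Coh.Stab.isTwistFamily_projSpace n k).add a b
  exact ⟨H10Coh.Tw.assoc F _ _ ≪≫ PicGrp.tensorModIso (Iso.refl F) (i ≪≫ eqToIso (congrArg _ h))⟩

theorem subsingleton_h0_twist_iff (hn : n ≠ 0) (d : ℤ) :
    Subsingleton (Coh.HH P O(d) 0) ↔ d < 0 := by
  refine ⟨fun h => ?_, fun h => ?_⟩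
  · by_contra hd
    haveI := PnPic.nontrivial_h0_nonneg (k := k) (n := n) (not_lt.1 hd)
    exact not_subsingleton _ h
  · exact @Equiv.subsingleton _ _ (sec (X := P) O(d)).toEquiv (PnPic.subsingleton_neg hn h)

/-- Sections of the twists of an ideal vanish below a twist without sections. -/
theorem subsingleton_h0_ideal_of_le (hn : n ≠ 0) (J : (P).IdealSheafData) {d e : ℤ} (hde : d ≤ e)
    (h : Subsingleton (Coh.HH P (CohB1.tensorMod (ClSub.idealMod J) O(e)) 0)) :
    Subsingleton (Coh.HH P (CohB1.tensorMod (ClSub.idealMod J) O(d)) 0) := by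
  haveI : IsIntegral (P) := LeadPic.PnRel.isIntegral_projSpace (n := n) k
  haveI := H19Grp.ProjPoint.lft_toSpec (K := k) n
  haveI : IsLocallyNoetherian (P) := LocallyOfFiniteType.isLocallyNoetherian (CohB1.ProjSpace.toSpec n k)
  have hT := H10Coh.Stab.isTwistFamily_projSpace n k
  by_contra hne
  obtain ⟨g, hg⟩ := exists_global_ne_zero _ (not_subsingleton_iff_nontrivial.1 hne)
  haveI hι : Mono (ClSub.idealModι J) := inferInstanceAs (Mono (kernel.ι _))
  obtain ⟨i⟩ := twist_twist_iso (ClSub.idealMod J) (show d + (e - d) = e by omega)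
  haveI hsub : Subsingleton Γ(CohB1.tensorMod (ClSub.idealMod J) O(e), ⊤) :=
    @Equiv.subsingleton _ _ (sec (X := P) _).symm.toEquiv h
  haveI : Mono i.hom := inferInstance
  haveI : Subsingleton Γ(CohB1.tensorMod (CohB1.tensorMod (ClSub.idealMod J) O(d)) O(e - d), ⊤) :=
    (H10Coh.injective_app_of_mono' i.hom ⊤).subsingleton
  haveI : Subsingleton Γ(O(e - d), ⊤) :=
    subsingleton_of_mul (ClSub.idealModι J) (hT.inv d) (hT.inv (e - d)) g hg
  have h0 : Subsingleton (Coh.HH P O(e - d) 0) := @Equiv.subsingleton _ _ (sec (X := P) O(e - d)).toEquiv ‹_›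
  have := (subsingleton_h0_twist_iff hn (e - d)).1 h0
  omega

/-- Sections of a twist of the middle term. -/
theorem subsingleton_h0_mid_iff (hn : 2 ≤ n) (J : (P).IdealSheafData) (c k₀ : ℤ)
    (S : ShortComplex (P).Modules) (hS : S.ShortExact) (h₁ : Nonempty (S.X₁ ≅ Coh.structureModule P))
    (h₃ : Nonempty (S.X₃ ≅ CohB1.tensorMod (ClSub.idealMod J) O(c))) :
    Subsingleton (Coh.HH P (CohB1.tensorMod S.X₂ O(k₀)) 0) ↔
      k₀ < 0 ∧ ∀ d : ℤ, d ≤ c + k₀ → Subsingleton (Coh.HH P (CohB1.tensorMod (ClSub.idealMod J) O(d)) 0) := by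
  obtain ⟨e₁⟩ := h₁
  obtain ⟨e₃⟩ := h₃
  have hT := H10Coh.Stab.isTwistFamily_projSpace n k
  have hS' := H16Derived.KFlat.Stalk.isFlatObj_of_isFlat (H16Derived.KFlat.Stalk.isFlat_of_isFinLocFree
    (H28Pinch.isFinLocFree_of_isInvertible (hT.inv k₀))) _ hS
  let i₁ : CohB1.tensorMod S.X₁ O(k₀) ≅ O(k₀) :=
    PicGrp.tensorModIso e₁ (Iso.refl _) ≪≫ H10Coh.Tw.leftUnitIso _
  obtain ⟨i₂⟩ := twist_twist_iso (ClSub.idealMod J) (show c + k₀ = c + k₀ from rfl)
  let i₃ : CohB1.tensorMod S.X₃ O(k₀) ≅ CohB1.tensorMod (ClSub.idealMod J) O(c + k₀) :=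
    PicGrp.tensorModIso e₃ (Iso.refl _) ≪≫ i₂
  refine (subsingleton_HH0_mid_iff k hS'
    (H10Coh.subsingleton_HH_of_iso i₁.symm 1 (H10Coh.Pn.subsingleton_HH_Od 1 (by omega) (by omega)))).trans
    ⟨fun h => ⟨(subsingleton_h0_twist_iff (k := k) (by omega) k₀).1 (H10Coh.subsingleton_HH_of_iso i₁ 0 h.1), ?_⟩,
      fun h => ⟨H10Coh.subsingleton_HH_of_iso i₁.symm 0 ((subsingleton_h0_twist_iff (k := k) (by omega) k₀).2 h.1),
        H10Coh.subsingleton_HH_of_iso i₃.symm 0 (h.2 _ le_rfl)⟩⟩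
  exact fun d hd => subsingleton_h0_ideal_of_le (by omega) J hd (H10Coh.subsingleton_HH_of_iso i₃ 0 h.2)

end Groth.Agent.H02CA.VBPn
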