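import Groth.Agent.H02CA.Euler.Simple
import Groth.Agent.H02CA.VBPn.SerreSeq

/-!
# Null-correlation bundles: sections of `Ω(1)`
-/

set_option autoImplicit false
set_option linter.style.haveILetI false
set_option backward.isDefEq.respectTransparency false
set_option maxHeartbeats 1600000
universe u

open CategoryTheory CategoryTheory.Limits AlgebraicGeometry TopologicalSpace Opposite MvPolynomial
open Groth.Agent.H11Tilde Groth.Agent.H10Coh.Pn

namespace Groth.Agent.H02CA.VBPn

attribute [local instance] H29RR.PnPic.overSpec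
attribute [local instance 10000] H10Coh.hasSheafifyAb H10Coh.hasWeakSheafifyAb H10Coh.hasExtAb H10Coh.enoughInjAb

variable {k : Type u} [Field k] {n : ℕ}

open Euler in
/-- Constants `a l` with `∑ a l • X l = 0 : O(-1) → O` vanish. -/
theorem eq_zero_of_sum_smul_mulX (a : Fin (n + 1) → k)
    (h : (∑ l, Formal.smulModΓ (Od n k (-1)) (Coh.toGlobal (toS n k) (a l)) ≫ mulX l (-1) 0 rfl) = 0) :
    ∀ l, a l = 0 := by
  haveI : IsIntegral (Proj (Gr n k)) := LeadPic.PnRel.isIntegral_projSpace (n := n) k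
  haveI : Nonempty (Proj (Gr n k)) := ⟨genericPoint _⟩
  refine eq_zero_of_sum_mk a fun y => ?_
  obtain ⟨i, hi⟩ := H11Ample.exists_mem_basicOpen_X (n := n) (R := k) y
  have h2 := congrArg (fun ψ : Od n k (-1) ⟶ Od n k 0 =>
    sval (Gr n k) (Gr n k) (ψ.app (chart i) (genNeg i le_rfl)) (⟨y, hi⟩ : chart (R := k) i)) h
  simp only [app_sum_apply, sval_sum] at h2
  have key : ∀ (b : k) (m : Fin (n + 1)), sval (Gr n k) (Gr n k)
      ((Formal.smulModΓ _ (Coh.toGlobal (toS n k) b) ≫ mulX m (-1) 0 rfl).app (chart i) (genNeg i le_rfl))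
      (⟨y, hi⟩ : chart (R := k) i) =
      Localization.mk (C b * X m) 1 * Localization.mk 1 ⟨X i, hi⟩ := by
    intro b m
    show sval _ _ ((mulX m (-1) 0 rfl).app (chart i)
      ((Formal.smulModΓ _ (Coh.toGlobal (toS n k) b)).app (chart i) (genNeg i le_rfl))) _ = _
    rw [sval_mulX, smulModΓ_const_app, sval_smul, fval_constΓ_map, sval_genNeg]
    simp only [smul_eq_mul]
    rw [← mul_assoc, Localization.mk_mul, one_mul, mul_comm (X m)]
  simp only [key, ← Finset.sum_mul] at h2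
  have h0 : sval (Gr n k) (Gr n k) ((0 : Od n k (-1) ⟶ Od n k 0).app (chart i) (genNeg i le_rfl))
      (⟨y, hi⟩ : chart (R := k) i) = 0 := sval_zero ..
  rw [h0] at h2
  replace h2 := (((isUnit_mk_iff (Gr n k) y 1 _).2 (one_notMem (Gr n k) y)).mul_left_eq_zero).1 h2
  simp only [Localization.mk_one_eq_algebraMap] at h2 ⊢
  rw [map_sum]
  exact h2

open Euler in
/-- `Ω(1)` on `Pⁿ` has no sections. -/
theorem subsingleton_h0_omega_one [QuasiSeparated (CohB1.ProjSpace.toSpec n k)] :
    Subsingleton (Coh.HH (CohB1.ProjSpace n k)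
      (CohB1.tensorMod (Omega.sheaf (CohB1.ProjSpace.toSpec n k)) (Twist.twistProjSpace n k 1)) 0) := by
  by_contra htriv
  rw [not_subsingleton_iff_nontrivial] at htriv
  have hT := H10Coh.Stab.isTwistFamily_projSpace n k
  obtain ⟨e₁⟩ := hT.add 1 (-1)
  obtain ⟨e₀⟩ := hT.zero
  obtain ⟨φ, hφ⟩ := H29RR.exists_hom_of_section (hT.inv (-1))
    (e₁ ≪≫ eqToIso (congrArg _ (add_neg_cancel (1 : ℤ))) ≪≫ e₀) htriv
  let d := OmegaSh.dOmega (CohB1.ProjSpace.toSpec n k)
  have hd : OmegaSh.IsUniversal d := H17.PrinOmega.isUniversal_dOmega _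
  choose a ha using fun l => exists_end_eq_smul (φ ≫ component d hd l)
  have hsum : (∑ l, Formal.smulModΓ (Od n k (-1)) (Coh.toGlobal (toS n k) (a l)) ≫ mulX l (-1) 0 rfl) = 0 := by
    have h1 : eulerι d hd ≫ eulerπ = ∑ l, component d hd l ≫ mulX (R := k) l (-1) 0 rfl := by
      rw [eulerι, eulerπ, Preadditive.sum_comp]
      simp only [Category.assoc, Sigma.ι_desc]
    calc (∑ l, Formal.smulModΓ (Od n k (-1)) (Coh.toGlobal (toS n k) (a l)) ≫ mulX l (-1) 0 rfl)
        = ∑ l, φ ≫ component d hd l ≫ mulX l (-1) 0 rfl := Finset.sum_congr rfl fun l _ => by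
          rw [← ha l, Category.assoc]
      _ = 0 := by rw [← Preadditive.comp_sum, ← h1, eulerι_π, comp_zero]
  refine hφ (hom_ext_components d hd φ 0 fun l => ?_)
  rw [ha l, eq_zero_of_sum_smul_mulX a hsum l, smulModΓ_zero', zero_comp]

end Groth.Agent.H02CA.VBPn
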