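import Groth.Agent.H02CA.VBPn.Bundle
import Groth.Agent.H02CA.VBPn.SerreSeq
import Groth.Agent.H02CA.Euler.Main
import Groth.Agent.H02CA.Euler.Simple
import Groth.Agent.H28RR.Omega
import Groth.Agent.H27CurveDiv.RelDim
import Groth.Agent.H26ZClos.Stalk
import Groth.Agent.H17.PnExt.Shape
import Groth.Agent.S10829
import Groth.Agent.H26Gr.GrSub

/-!
# Null-correlation bundles exist on odd-dimensional projective spaces
-/

set_option autoImplicit false
set_option linter.style.haveILetI false
set_option backward.isDefEq.respectTransparency false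
set_option maxHeartbeats 1600000
universe u

open CategoryTheory CategoryTheory.Limits AlgebraicGeometry TopologicalSpace Opposite MvPolynomial
open Groth.Agent.H11Tilde Groth.Agent.H10Coh.Pn Groth.Agent.H06Mod

namespace Groth.Agent.H02CA.VBPn

open Euler

variable {k : Type u} [Field k] {n : ℕ}

/-- Degree `-2` generator on a chart. -/
noncomputable def genNeg2 (i : Fin (n + 1)) {V : (Proj (Gr n k)).Opens} (hV : V ≤ chart i) : Γ(Od n k (-2), V) :=
  secOf (Gr n k) (Gr n k) (SetLike.one_mem_graded (Gr n k))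
    (SetLike.pow_mem_graded 2 (X_mem (R := k) i))
    (fun y (hy : y ∈ V) h => hV hy (y.isPrime.mem_of_pow_mem 2 h)) (by simp)

theorem mulX_genNeg2 (i : Fin (n + 1)) {V : (Proj (Gr n k)).Opens} (hV : V ≤ chart i) :
    (mulX i (-2) (-1) rfl).app V (genNeg2 (k := k) i hV) = genNeg i hV := by
  refine sval_ext _ _ fun y => ?_
  rw [sval_mulX, sval_genNeg]
  show (Localization.mk (X i) 1 : GrTwist.Loc (Gr n k) y.1) • Localization.mk 1 _ = _
  rw [smul_eq_mul, Localization.mk_mul, mul_one]
  refine Localization.mk_eq_mk_iff.2 (Localization.r_iff_exists.2 ⟨1, ?_⟩)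
  simp [sq]

theorem bijective_mulX_app (i : Fin (n + 1)) {V : (Proj (Gr n k)).Opens} (hV : V ≤ chart i) :
    Function.Bijective ((mulX (R := k) i (-2) (-1) rfl).app V) := by
  have h2 : Function.Bijective fun r : Γ(Proj (Gr n k), V) => r • genNeg2 (k := k) i hV :=
    bijective_smul_gen (Gr n k) (SetLike.one_mem_graded (Gr n k)) (SetLike.pow_mem_graded 2 (X_mem (R := k) i))
      (fun y _ => one_notMem (Gr n k) y) (fun y (hy : y ∈ V) h => hV hy (y.isPrime.mem_of_pow_mem 2 h))
      (by simp) _ fun _ => rfl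
  refine ⟨fun a b hab => ?_, fun b => ?_⟩
  · obtain ⟨ra, rfl⟩ := h2.2 a
    obtain ⟨rb, rfl⟩ := h2.2 b
    rw [Scheme.Modules.Hom.app_smul, Scheme.Modules.Hom.app_smul, mulX_genNeg2] at hab
    exact congrArg (· • genNeg2 i hV) ((bijective_smul_genNeg i hV).1 hab)
  · obtain ⟨r, rfl⟩ := (bijective_smul_genNeg i hV).2 b
    exact ⟨r • genNeg2 i hV, by rw [Scheme.Modules.Hom.app_smul, mulX_genNeg2]⟩

/-- The partner of a coordinate. -/
def partner (hn : Odd n) (l : Fin (n + 1)) : Fin (n + 1) :=
  ⟨if l.1 % 2 = 0 then l.1 + 1 else l.1 - 1, by obtain ⟨r, rfl⟩ := hn; have := l.2; split_ifs <;> omega⟩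

/-- The components of the symplectic section. -/
noncomputable def comp (hn : Odd n) (l : Fin (n + 1)) : Od n k (-2) ⟶ Od n k (-1) :=
  if l.1 % 2 = 0 then mulX (partner hn l) (-2) (-1) rfl else -mulX (partner hn l) (-2) (-1) rfl

theorem mulX_comm (a b : Fin (n + 1)) :
    mulX (R := k) a (-2) (-1) rfl ≫ mulX b (-1) 0 rfl = mulX b (-2) (-1) rfl ≫ mulX a (-1) 0 rfl := by
  refine Scheme.Modules.hom_ext _ _ fun U => ConcreteCategory.hom_ext _ _ fun s => sval_ext _ _ fun y => ?_
  show sval _ _ ((mulX b (-1) 0 rfl).app U ((mulX a (-2) (-1) rfl).app U s)) y =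
    sval _ _ ((mulX a (-1) 0 rfl).app U ((mulX b (-2) (-1) rfl).app U s)) y
  rw [sval_mulX, sval_mulX, sval_mulX, sval_mulX]
  exact smul_comm _ _ _

theorem sum_comp_mulX (hn : Odd n) :
    ∑ l, comp (k := k) hn l ≫ mulX l (-1) 0 rfl = 0 := by
  refine Finset.sum_involution (fun l _ => partner hn l) (fun l _ => ?_) (fun l _ _ h => ?_)
    (fun l _ => Finset.mem_univ _) (fun l _ => ?_)
  · have hl := l.2
    by_cases hl0 : l.1 % 2 = 0
    · have hp : (partner hn l).1 % 2 ≠ 0 := by simp [partner, hl0]; omega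
      have hpp : partner hn (partner hn l) = l := Fin.ext (by simp [partner, hl0, Nat.add_mod])
      rw [comp, if_pos hl0, comp, if_neg hp, hpp, Preadditive.neg_comp, mulX_comm (k := k) l, add_neg_cancel]
    · have hp : (partner hn l).1 % 2 = 0 := by simp [partner, hl0]; omega
      have hpp : partner hn (partner hn l) = l := Fin.ext (by
        simp only [partner, hl0, if_false]
        rw [if_pos (by omega)]
        omega)
      rw [comp, if_neg hl0, comp, if_pos hp, hpp, Preadditive.neg_comp, mulX_comm (k := k) l, neg_add_cancel]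
  · have := congrArg Fin.val h
    simp only [partner] at this
    split_ifs at this <;> omega
  · apply Fin.ext
    simp only [partner]
    split_ifs <;> omega

/-- Null-correlation maps exist. -/
theorem exists_untwisted [QuasiSeparated (CohB1.ProjSpace.toSpec n k)] (hn : Odd n) :
    ∃ v : Od n k (-2) ⟶ Omega.sheaf (CohB1.ProjSpace.toSpec n k),
      Mono v ∧ FlatMod.IsFinLocFreeOfRank (n - 1) (cokernel v) := by
  haveI : IsIntegral (Proj (Gr n k)) := LeadPic.PnRel.isIntegral_projSpace (n := n) k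
  haveI : IsLocallyNoetherian (Proj (Gr n k)) := by
    haveI := H19Grp.ProjPoint.lft_toSpec (K := k) n
    exact LocallyOfFiniteType.isLocallyNoetherian (CohB1.ProjSpace.toSpec n k)
  haveI : Smooth (CohB1.ProjSpace.toSpec n k) := H26Smooth.smooth_toSpec n k
  haveI : IsIntegral (CohB1.ProjSpace n k) := LeadPic.PnRel.isIntegral_projSpace (n := n) k
  haveI : SmoothOfRelativeDimension n (CohB1.ProjSpace.toSpec n k) :=
    H27CurveDiv.smoothOfRelativeDimension_of_dim _ n (S10829.result k n)
  let d := OmegaSh.dOmega (CohB1.ProjSpace.toSpec n k)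
  have hd : OmegaSh.IsUniversal d := H17.PrinOmega.isUniversal_dOmega _
  have hE := shortExact_euler d hd
  haveI : Mono (eulerComplex d hd).f := hE.mono_f
  let w : Od n k (-2) ⟶ ∐ fun _ : Fin (n + 1) => Od n k (-1) :=
    ∑ l, comp hn l ≫ Sigma.ι (fun _ : Fin (n + 1) => Od n k (-1)) l
  have hw : w ≫ eulerπ = 0 := by
    rw [← sum_comp_mulX (k := k) hn, Preadditive.sum_comp]
    simp only [Category.assoc, eulerπ, Sigma.ι_desc]
  let v := hE.exact.lift w hw
  have hv : v ≫ eulerι d hd = w := hE.exact.lift_f w hw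
  have hc : ∀ l, v ≫ component d hd l = comp hn l := fun l => by
    rw [← eulerι_proj, ← Category.assoc, hv, Preadditive.sum_comp, Finset.sum_eq_single l]
    · rw [Category.assoc, ι_proj, dif_pos rfl, eqToHom_refl, Category.comp_id]
    · intro b _ hb; rw [Category.assoc, ι_proj, dif_neg hb, comp_zero]
    · simp
  have hL : FlatMod.IsFinLocFreeOfRank 1 (Od n k (-2)) := by
    have h : ∀ M : (CohB1.ProjSpace n k).Modules, Twist.twistProjSpace n k (-2) = M →
        FlatMod.IsFinLocFreeOfRank 1 M := by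
      rintro M rfl
      exact H29RR.rank_one_of_isInvertible ((H10Coh.Stab.isTwistFamily_projSpace n k).inv (-2))
    exact h _ (H17.PnExt.od_eq n k (-2))
  refine ⟨v, mono_and_coker_rank v hL (H28RR.isFinLocFreeOfRank_omega _ n) fun x => ?_⟩
  obtain ⟨i, hi⟩ := H11Ample.exists_mem_basicOpen_X (n := n) (R := k) x
  have hb : Function.Bijective (stalkLin (mulX (R := k) i (-2) (-1) rfl) x) :=
    H26ZClos.stalk_bijective_of_app (mulX (R := k) i (-2) (-1) rfl).mapPresheaf (chart i)
      (fun W hW => bijective_mulX_app i hW) hi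
  have hpp : partner hn (partner hn i) = i := by
    apply Fin.ext
    simp only [partner]
    split_ifs <;> omega
  let E := LinearEquiv.ofBijective _ hb
  let c := stalkLin (component d hd (partner hn i)) x
  have hca : ∀ a, c (stalkLin v x a) = stalkLin (comp hn (partner hn i)) x a := fun a =>
    (H29Omega.stalkLin_comp v (component d hd (partner hn i)) x a).symm.trans
      (congrArg (fun φ => stalkLin φ x a) (hc (partner hn i)))
  by_cases h0 : (partner hn i).1 % 2 = 0
  · refine ⟨E.symm.toLinearMap ∘ₗ c, LinearMap.ext fun a => E.injective ?_⟩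
    show E (E.symm (c (stalkLin v x a))) = E a
    rw [E.apply_symm_apply, hca, comp, if_pos h0, hpp]
    rfl
  · refine ⟨-(E.symm.toLinearMap ∘ₗ c), LinearMap.ext fun a => E.injective ?_⟩
    show E (-(E.symm (c (stalkLin v x a)))) = E a
    rw [map_neg, E.apply_symm_apply, hca, comp, if_neg h0, hpp]
    have hneg : stalkLin (-mulX (R := k) i (-2) (-1) rfl) x a = -stalkLin (mulX (R := k) i (-2) (-1) rfl) x a := by
      obtain ⟨V, hV, s, rfl⟩ := TopCat.Presheaf.exists_germ_eq _ a
      rw [stalkLin_germ, stalkLin_germ, ← map_neg]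
      rfl
    rw [hneg, neg_neg]
    rfl

/-- Null-correlation presentations exist. -/
theorem exists_nullCorrelation [QuasiSeparated (CohB1.ProjSpace.toSpec n k)] (hn : Odd n) :
    ∃ u : Twist.twistProjSpace n k (-1) ⟶
        CohB1.tensorMod (Omega.sheaf (CohB1.ProjSpace.toSpec n k)) (Twist.twistProjSpace n k 1),
      Mono u ∧ FlatMod.IsFinLocFreeOfRank (n - 1) (cokernel u) := by
  have key : ∀ M : (CohB1.ProjSpace n k).Modules, M = Od n k (-2) →
      ∃ v : M ⟶ Omega.sheaf (CohB1.ProjSpace.toSpec n k), Mono v ∧ FlatMod.IsFinLocFreeOfRank (n - 1) (cokernel v) := by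
    rintro M rfl
    exact exists_untwisted hn
  obtain ⟨v, hmono, hrank⟩ := key _ (H17.PnExt.od_eq n k (-2))
  haveI := hmono
  haveI : IsIntegral (CohB1.ProjSpace n k) := LeadPic.PnRel.isIntegral_projSpace (n := n) k
  haveI := H19Grp.ProjPoint.lft_toSpec (K := k) n
  haveI : IsLocallyNoetherian (CohB1.ProjSpace n k) :=
    LocallyOfFiniteType.isLocallyNoetherian (CohB1.ProjSpace.toSpec n k)
  have hT := H10Coh.Stab.isTwistFamily_projSpace n k
  obtain ⟨t⟩ := hT.add (-2) 1
  let e : Twist.twistProjSpace n k (-1) ≅ CohB1.tensorMod (Twist.twistProjSpace n k (-2)) (Twist.twistProjSpace n k 1) :=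
    (t ≪≫ eqToIso (congrArg _ (show (-2 : ℤ) + 1 = -1 by norm_num))).symm
  haveI := mono_twist_map (hT.inv 1) v
  have hS : (ShortComplex.mk v (cokernel.π v) (cokernel.condition v)).ShortExact :=
    { exact := ShortComplex.exact_cokernel _ }
  have hS' := H16Derived.KFlat.Stalk.isFlatObj_of_isFlat (H16Derived.KFlat.Stalk.isFlat_of_isFinLocFree
    (H28Pinch.isFinLocFree_of_isInvertible (hT.inv 1))) _ hS
  refine ⟨e.hom ≫ tw _ v, mono_comp _ _, ?_⟩
  exact H26Gr.isFinLocFreeOfRank_of_iso ((cokernelEpiComp e.hom (tw (Twist.twistProjSpace n k 1) v)) ≪≫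
    (cokernelIsCokernel _).coconePointUniqueUpToIso hS'.gIsCokernel).symm (H29RR.rank_tensor hrank (hT.inv 1))

end Groth.Agent.H02CA.VBPn
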