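import Groth.Agent.H02CA.Tango.StalkSum
import Groth.Agent.H25Par.Rank
import Groth.Agent.H29RR.Degree
import Groth.Agent.H26Gr.GrSub

/-!
# The rank of a sum of invertible modules
-/

set_option autoImplicit false
set_option linter.style.haveILetI false
set_option backward.isDefEq.respectTransparency false
set_option maxHeartbeats 800000
universe u

open CategoryTheory CategoryTheory.Limits AlgebraicGeometry
open Groth.Agent.H06Mod

namespace Groth.Agent.H02CA.VBPn

variable {X : Scheme.{u}}

theorem finrank_sigma_stalk' {N : ℕ} (L : Fin N → X.Modules) (x : X) (g : ∀ l, (L l).presheaf.stalk x)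
    (hg : ∀ l, Function.Bijective fun r : X.presheaf.stalk x => r • g l) :
    Module.finrank (X.presheaf.stalk x) ((∐ L).presheaf.stalk x) = N := by
  let φ : (Fin N → X.presheaf.stalk x) →ₗ[X.presheaf.stalk x] (∐ L).presheaf.stalk x :=
    ∑ l, (stalkLin (Sigma.ι L l) x ∘ₗ LinearMap.toSpanSingleton _ _ (g l)) ∘ₗ LinearMap.proj l
  have hφ : ∀ r, φ r = ∑ l, stalkLin (Sigma.ι L l) x (r l • g l) := fun r => by simp [φ]
  have hproj : ∀ r m, stalkLin (Euler.proj L m) x (φ r) = r m • g m := fun r m => by
    rw [hφ, map_sum, Finset.sum_eq_single m (fun l _ hl => ?_) (by simp)]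
    · rw [← H29Omega.stalkLin_comp, Euler.ι_proj]
      simp [Tango.stalkLin_id']
    · rw [← H29Omega.stalkLin_comp, Euler.ι_proj, dif_neg hl, Tango.stalkLin_zero]
      rfl
  have hb : Function.Bijective φ := by
    refine ⟨fun r s h => funext fun m => (hg m).1 ?_, fun z => ?_⟩
    · show r m • g m = s m • g m
      rw [← hproj, h, hproj]
    · choose r hr using fun l => (hg l).2 (stalkLin (Euler.proj L l) x z)
      refine ⟨r, ?_⟩
      conv_rhs => rw [← Tango.stalkLin_id' x z, ← Euler.sum_proj_ι, Tango.stalkLin_sum, LinearMap.sum_apply]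
      rw [hφ]
      exact Finset.sum_congr rfl fun l _ => (congrArg _ (hr l)).trans (H29Omega.stalkLin_comp _ _ _ _).symm
  rw [← (LinearEquiv.ofBijective φ hb).finrank_eq, Module.finrank_fin_fun]

theorem rank_sum_eq [Nonempty X] [IsLocallyNoetherian X] {N r : ℕ} (L : Fin N → X.Modules)
    (hL : ∀ l, PicF.IsInvertible (L l)) {E : X.Modules} (hE : FlatMod.IsFinLocFreeOfRank r E) (e : E ≅ ∐ L) :
    N = r := by
  obtain ⟨x⟩ := (inferInstance : Nonempty X)
  have h1 := (H25Par.finrank_stalk (H26Gr.isFinLocFreeOfRank_of_iso e hE) x).2.2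
  have key : ∀ l, ∃ g : (L l).presheaf.stalk x, Function.Bijective fun r : X.presheaf.stalk x => r • g := by
    intro l
    obtain ⟨hf, hfi, hr⟩ := H25Par.finrank_stalk (H29RR.rank_one_of_isInvertible (hL l)) x
    haveI := hf; haveI := hfi
    let b := Module.finBasisOfFinrankEq _ _ hr
    refine ⟨b 0, fun r s h => ?_, fun z => ⟨b.repr z 0, ?_⟩⟩
    · simpa using congrArg (fun v => b.repr v 0) h
    · simpa using b.sum_repr z
  choose g hg using key
  exact (finrank_sigma_stalk' L x g hg).symm.trans h1

end Groth.Agent.H02CA.VBPn
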