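import Groth.Agent.H02CA.VBPn.Hyper
import Groth.Agent.H02CA.VBPn.RankSum
import Groth.Agent.H10Coh.ProjVanishing
import Groth.Agent.H29RR.P1Split
import Groth.Agent.S11674

/-!
# Splitting of bundles without intermediate cohomology
-/

set_option autoImplicit false
set_option linter.style.haveILetI false
set_option maxHeartbeats 1600000
universe u

open CategoryTheory CategoryTheory.Limits AlgebraicGeometry
open Groth.Agent

namespace Groth.Agent.H02CA.VBPn

attribute [local instance 10000] H10Coh.hasSheafifyAb H10Coh.hasWeakSheafifyAb H10Coh.hasExtAb H10Coh.enoughInjAb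

open H22Alg

variable {k : Type u} [Field k] {n : ℕ}

/-- No intermediate cohomology. -/
abbrev NoMid (n : ℕ) (E : (CohB1.ProjSpace n k).Modules) : Prop :=
  ∀ (q : ℕ) (d : ℤ), 0 < q → q < n →
    Subsingleton (Coh.HH (CohB1.ProjSpace n k) (CohB1.tensorMod E (Twist.twistProjSpace n k d)) q)

theorem exists_low (hn : 1 ≤ n) {E : (CohB1.ProjSpace n k).Modules} (hE : FlatMod.IsFinLocFree E) :
    ∃ n₀ : ℤ, ∀ m : ℤ, m ≤ n₀ →
      Subsingleton (Coh.HH (CohB1.ProjSpace n k) (CohB1.tensorMod E (Twist.twistProjSpace n k m)) 0) := by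
  obtain ⟨m₀, h⟩ := ESZ.van_finLocFree (r := n) (k := k) 0 hn E hE
  refine ⟨-(m₀ : ℤ), fun m hm => ?_⟩
  have h' := h (-m).toNat (by omega)
  rwa [show -(((-m).toNat : ℕ) : ℤ) = m by omega] at h'

theorem exists_high {E : (CohB1.ProjSpace n k).Modules} (hE : Coh.IsCoh E) :
    ∃ d₀ : ℤ, ∀ d : ℤ, d₀ ≤ d → ∀ p : ℕ, 0 < p →
      Subsingleton (Coh.HH (CohB1.ProjSpace n k) (CohB1.tensorMod E (Twist.twistProjSpace n k d)) p) := by
  haveI : IsNoetherianRing (MvPolynomial (Fin (n + 1)) k) := inferInstance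
  obtain ⟨d₀, h⟩ := H10Coh.Tw.exists_vanishing_twistBy (CohB1.polyGrading n k) E hE
  exact ⟨d₀, fun d hd p hp => @Equiv.subsingleton _ _ (H10Coh.HHEquiv _ p).toEquiv (h d hd p hp)⟩

/-- A bundle without intermediate cohomology splits. -/
theorem exists_split {r : ℕ} (hn : 1 ≤ n) {E : (CohB1.ProjSpace n k).Modules}
    (hE : FlatMod.IsFinLocFreeOfRank r E) (hmid : NoMid n E) :
    ∃ b : Fin r → ℤ, Nonempty (E ≅ ∐ fun j => Twist.twistProjSpace n k (b j)) := by
  haveI := CMHyper.noetherian k n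
  haveI : IsIntegral (CohB1.ProjSpace n k) := LeadPic.PnRel.isIntegral_projSpace (n := n) k
  have hfree := (show FlatMod.IsFinLocFree E from fun x =>
    let ⟨U, hx, he⟩ := hE x
    ⟨U, r, hx, he⟩)
  obtain ⟨r', a, ⟨e⟩⟩ : ∃ (r' : ℕ) (a : Fin r' → ℤ), Nonempty (E ≅ ∐ fun j => Twist.twistProjSpace n k (a j)) := by
    by_cases h0 : IsZero E
    · refine ⟨0, Fin.elim0, ⟨h0.iso ((IsZero.iff_id_eq_zero _).2 (Sigma.hom_ext _ _ fun b => b.elim0))⟩⟩
    · exact (S11674.result k n hn E (H10Coh.Tw.isCoh_of_vb hfree) h0).2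
        ⟨exists_low hn hfree, fun m i h1 h2 => hmid i m h1 h2⟩
  obtain rfl := rank_sum_eq _ (fun j => (H10Coh.Stab.isTwistFamily_projSpace n k).inv (a j)) hE e
  exact ⟨a, ⟨e⟩⟩

/-- A sum of twisting sheaves has no intermediate cohomology. -/
theorem noMid_of_split {r : ℕ} (a : Fin r → ℤ) {E : (CohB1.ProjSpace n k).Modules}
    (e : E ≅ ∐ fun j => Twist.twistProjSpace n k (a j)) : NoMid n E := by
  intro q d hq hqn
  obtain ⟨t⟩ := H29RR.PnPic.nonempty_tensor_sum (n := n) (k := k) a d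
  refine H10Coh.subsingleton_HH_of_iso (PicGrp.tensorModIso e (Iso.refl _) ≪≫ t).symm q ?_
  refine H17.Horrocks.subsingleton_map_sigma _ (𝟭 _) q fun j => ?_
  exact H10Coh.Pn.subsingleton_HH_Od q (by omega) (by omega)

/-- Absence of intermediate cohomology propagates from a hyperplane. -/
theorem noMid_of_hyperplane (hn : 2 ≤ n) (a : Fin (n + 2) → k) (p : Fin (n + 2)) (hp : a p ≠ 0)
    {E : (CohB1.ProjSpace (n + 1) k).Modules} (hE : FlatMod.IsFinLocFree E)
    (h : NoMid n ((Scheme.Modules.pullback (HyperplanePn.emb a p)).obj E)) : NoMid (n + 1) E := by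
  intro q D hq hqn
  obtain rfl | hq2 : q = 1 ∨ 2 ≤ q := by omega
  · exact subsingleton_of_hyperplane a p hp hE (by omega) fun j _ => h 1 j (by omega) (by omega)
  · obtain ⟨q, rfl⟩ : ∃ q', q = q' + 1 := ⟨q - 1, by omega⟩
    obtain ⟨d₀, hd₀⟩ := exists_high (H10Coh.Tw.isCoh_of_vb hE)
    suffices H : ∀ (t : ℕ) (j : ℤ), d₀ ≤ j + t →
        Subsingleton (Coh.HH (CohB1.ProjSpace (n + 1) k)
          (CohB1.tensorMod E (Twist.twistProjSpace (n + 1) k j)) (q + 1)) from H (d₀ - D).toNat D (by omega)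
    intro t
    induction t with
    | zero => exact fun j hj => hd₀ j (by simpa using hj) _ (by omega)
    | succ t ih =>
      intro j hj
      obtain ⟨S, hS, ⟨e₁⟩, ⟨e₂⟩, h₃⟩ := exists_seq a p hp hE (j + 1)
      rw [add_sub_cancel_right] at e₁
      refine H10Coh.subsingleton_HH_of_iso e₁ (q + 1) (CMField.van_iff.1 ?_)
      exact H28Int.subsingleton_X₁ (H10Coh.shortExact_sh hS)
        (CMField.van_iff.2 (H10Coh.subsingleton_HH_of_iso e₂.symm (q + 1) (ih (j + 1) (by push_cast at hj; omega))))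
        (CMField.van_iff.2 ((h₃ q).2 (h q (j + 1) (by omega) (by omega))))

end Groth.Agent.H02CA.VBPn
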