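import Groth.Agent.H02CA.VBPn.Wedge
import Groth.Agent.H26Base.BasisLite

/-!
# Maps to the determinant are wedges with sections
-/

set_option autoImplicit false
set_option linter.style.haveILetI false
set_option backward.isDefEq.respectTransparency false
set_option maxHeartbeats 3200000
universe u

open CategoryTheory CategoryTheory.Limits AlgebraicGeometry TopologicalSpace Opposite exteriorPower
open Groth.Agent

namespace Groth.Agent.H02CA.VBPn

open H26Base.BasisLite

variable {X : Scheme.{u}} {E L : X.Modules}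

theorem pairing_vec {R M : Type*} [CommRing R] [AddCommGroup M] [Module R M] (b0 b1 : M) (a c p q : R) :
    ιMulti R 2 ![a • b0 + c • b1, p • b0 + q • b1] = (a * q - c * p) • ιMulti R 2 ![b0, b1] := by
  let A := ιMulti R 2 (M := M)
  have e0 : ∀ z v : M, ![z, v] = Function.update ![b0, v] 0 z := fun z v => by
    ext i; fin_cases i <;> simp [Function.update]
  have e1 : ∀ z v : M, ![v, z] = Function.update ![v, b0] 1 z := fun z v => by
    ext i; fin_cases i <;> simp [Function.update]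
  have hl : ∀ v : M, A ![a • b0 + c • b1, v] = a • A ![b0, v] + c • A ![b1, v] := fun v => by
    rw [e0 _ v, AlternatingMap.map_update_add, AlternatingMap.map_update_smul, AlternatingMap.map_update_smul,
      ← e0, ← e0]
  have hr : ∀ v : M, A ![v, p • b0 + q • b1] = p • A ![v, b0] + q • A ![v, b1] := fun v => by
    rw [e1 _ v, AlternatingMap.map_update_add, AlternatingMap.map_update_smul, AlternatingMap.map_update_smul,
      ← e1, ← e1]
  have h00 : A ![b0, b0] = 0 := A.map_eq_zero_of_eq _ (i := 0) (j := 1) rfl (by decide)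
  have h11 : A ![b1, b1] = 0 := A.map_eq_zero_of_eq _ (i := 0) (j := 1) rfl (by decide)
  have h10 : A ![b1, b0] = -A ![b0, b1] := by
    have h := A.map_swap ![b0, b1] (i := 0) (j := 1) (by decide)
    rwa [show ![b0, b1] ∘ Equiv.swap (0 : Fin 2) 1 = ![b1, b0] from funext fun i => by fin_cases i <;> simp] at h
  show A _ = _ • A _
  rw [hl, hr, hr, h00, h11, h10]
  simp only [smul_zero, zero_add, add_zero, smul_neg, smul_smul, sub_smul]
  module

/-- A map to the determinant of a rank two bundle which is a wedge with a section at all affine opens. -/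
def IsWedge (φ : ∀ U : X.affineOpens, Γ(L, U.1) ≃ₗ[Γ(X, U.1)] ↥(⋀[Γ(X, U.1)]^2 Γ(E, U.1)))
    (f : E ⟶ L) {V : X.Opens} (t : Γ(E, V)) : Prop :=
  ∀ (U : X.affineOpens) (h : U.1 ≤ V) (v : Γ(E, U.1)),
    φ U (f.app U.1 v) = ιMulti Γ(X, U.1) 2 ![E.presheaf.map (homOfLE h).op t, v]

theorem comb_two {U V : X.Opens} (m : Fin 2 → Γ(E, U)) (h : V ≤ U) (c : Fin 2 → Γ(X, V)) :
    comb E m h c = c 0 • E.presheaf.map (homOfLE h).op (m 0) + c 1 • E.presheaf.map (homOfLE h).op (m 1) := by
  rw [comb, Fin.sum_univ_two]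

theorem bijective_wedge {U V : X.Opens} {m : Fin 2 → Γ(E, U)} (hm : IsBasisOn E m) (h : V ≤ U) :
    Function.Bijective fun r : Γ(X, V) => r • ιMulti Γ(X, V) 2
      ![E.presheaf.map (homOfLE h).op (m 0), E.presheaf.map (homOfLE h).op (m 1)] := by
  refine H26Base.DualExt.bijective_smul_iMulti _ ?_
  have : (fun c : Fin 2 → Γ(X, V) => ∑ j, c j •
      ![E.presheaf.map (homOfLE h).op (m 0), E.presheaf.map (homOfLE h).op (m 1)] j) = comb E m h :=
    funext fun c => by rw [comb_two, Fin.sum_univ_two]; rfl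
  rw [this]
  exact hm V h

/-- Wedges determine sections inside a chart. -/
theorem eq_of_isWedge {U : X.Opens} {m : Fin 2 → Γ(E, U)} (hm : IsBasisOn E m)
    {φ : ∀ U : X.affineOpens, Γ(L, U.1) ≃ₗ[Γ(X, U.1)] ↥(⋀[Γ(X, U.1)]^2 Γ(E, U.1))} {f : E ⟶ L}
    {V : X.Opens} (hV : IsAffineOpen V) (h : V ≤ U) {t t' : Γ(E, V)} (ht : IsWedge φ f t) (ht' : IsWedge φ f t') :
    t = t' := by
  let b0 := E.presheaf.map (homOfLE h).op (m 0)
  let b1 := E.presheaf.map (homOfLE h).op (m 1)
  obtain ⟨c, rfl⟩ := (hm V h).2 t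
  obtain ⟨c', rfl⟩ := (hm V h).2 t'
  have key : ∀ p q : Γ(X, V), c 0 * q - c 1 * p = c' 0 * q - c' 1 * p := fun p q => by
    have h1 := (ht ⟨V, hV⟩ le_rfl (p • b0 + q • b1)).symm.trans (ht' ⟨V, hV⟩ le_rfl (p • b0 + q • b1))
    rw [H10Coh.mres_self, H10Coh.mres_self, comb_two, comb_two, pairing_vec, pairing_vec] at h1
    exact (bijective_wedge hm h).1 h1
  have k0 : c 0 = c' 0 := by have := key 0 1; simpa using this
  have k1 : c 1 = c' 1 := by have := key 1 0; simpa using this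
  exact congrArg _ (funext fun i => by fin_cases i <;> [exact k0; exact k1])

/-- Inside a chart every map to the determinant is a wedge. -/
theorem exists_isWedge {U : X.Opens} {m : Fin 2 → Γ(E, U)} (hm : IsBasisOn E m)
    (φ : ∀ U : X.affineOpens, Γ(L, U.1) ≃ₗ[Γ(X, U.1)] ↥(⋀[Γ(X, U.1)]^2 Γ(E, U.1)))
    (hφ : ∀ (U V : X.affineOpens) (h : V.1 ≤ U.1) (e : Fin 2 → Γ(E, U.1)),
      L.presheaf.map (homOfLE h).op ((φ U).symm (ιMulti _ 2 e)) =
        (φ V).symm (ιMulti _ 2 fun j => E.presheaf.map (homOfLE h).op (e j)))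
    (f : E ⟶ L) {V : X.Opens} (hV : IsAffineOpen V) (h : V ≤ U) : ∃ t : Γ(E, V), IsWedge φ f t := by
  let b : Fin 2 → Γ(E, V) := fun i => E.presheaf.map (homOfLE h).op (m i)
  let ω := ιMulti Γ(X, V) 2 ![b 0, b 1]
  choose c hc using fun i => (bijective_wedge hm h).2 (φ ⟨V, hV⟩ (f.app V (b i)))
  refine ⟨c 1 • b 0 + (-c 0) • b 1, fun W hW v => ?_⟩
  have hWU : W.1 ≤ U := le_trans hW h
  let res : Γ(X, V) →+* Γ(X, W.1) := (X.presheaf.map (homOfLE hW).op).hom
  let d : Fin 2 → Γ(E, W.1) := fun i => E.presheaf.map (homOfLE hWU).op (m i)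
  have hd : ∀ i, E.presheaf.map (homOfLE hW).op (b i) = d i := fun i => H10Coh.mres_mres E h hW (m i)
  have hf : ∀ i, φ W (f.app W.1 (d i)) = res (c i) • ιMulti Γ(X, W.1) 2 ![d 0, d 1] := by
    intro i
    have h1 : f.app V (b i) = c i • (φ ⟨V, hV⟩).symm ω := by
      rw [← map_smul]
      exact (LinearEquiv.eq_symm_apply _).2 (hc i).symm
    have h2 := congrArg (L.presheaf.map (homOfLE hW).op) h1
    rw [← H11Tilde.app_map_apply, hd, Scheme.Modules.map_smul] at h2
    rw [h2]
    refine (map_smul (φ W) _ _).trans (congrArg (_ • ·) ?_)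
    rw [show L.presheaf.map (homOfLE hW).op ((φ ⟨V, hV⟩).symm ω) = _ from hφ ⟨V, hV⟩ W hW _,
      LinearEquiv.apply_symm_apply]
    refine congrArg _ (funext fun j => ?_)
    fin_cases j <;> exact hd _
  obtain ⟨e, rfl⟩ := (hm W.1 hWU).2 v
  rw [map_add, Scheme.Modules.map_smul, Scheme.Modules.map_smul, hd, hd, comb_two, map_add (f.app W.1).hom,
    Scheme.Modules.Hom.app_smul, Scheme.Modules.Hom.app_smul, map_add, map_smul, map_smul]
  erw [hf, hf, pairing_vec]
  rw [smul_smul, smul_smul, ← add_smul, map_neg]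
  congr 1
  ring

/-- Every map to the determinant of a rank two bundle is a wedge with a section. -/
theorem exists_section_of_hom (hE : FlatMod.IsFinLocFreeOfRank 2 E) (hL : ExtPow.IsExtPow 2 E L) (f : E ⟶ L)
    (hf : f ≠ 0) : ∃ t : Γ(E, ⊤), t ≠ 0 := by
  obtain ⟨φ₀, hφ₀⟩ := hL
  let φ : ∀ U : X.affineOpens, Γ(L, U.1) ≃ₗ[Γ(X, U.1)] ↥(⋀[Γ(X, U.1)]^2 Γ(E, U.1)) := fun U => φ₀ U
  choose U hxU he using hE
  choose m hm using fun x => exists_isBasisOn_of_chart E (he x).some
  choose V hV hxV hVU using fun x => exists_isAffineOpen_mem_and_subset (x := x) (U := U x) (hxU x)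
  choose s hs using fun x => exists_isWedge (hm x) φ hφ₀ f (hV x) (hVU x)
  have hcompat : TopCat.Presheaf.IsCompatible (H10Coh.sh E).obj V s := fun a b => by
    refine H29Ref.sec_ext E fun y hy => ?_
    obtain ⟨A, hA, hyA, hAV⟩ := exists_isAffineOpen_mem_and_subset (x := y) (U := V a ⊓ V b) hy
    have ha : A ≤ V a := fun z hz => (hAV hz).1
    have hb : A ≤ V b := fun z hz => (hAV hz).2
    have h := eq_of_isWedge (φ := φ) (f := f) (hm a) hA (ha.trans (hVU a))
      (t := E.presheaf.map (homOfLE ha).op (s a)) (t' := E.presheaf.map (homOfLE hb).op (s b))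
      (fun W hW v => by rw [H10Coh.mres_mres]; exact hs a W (hW.trans ha) v)
      (fun W hW v => by rw [H10Coh.mres_mres]; exact hs b W (hW.trans hb) v)
    refine ((TopCat.Presheaf.germ_res_apply E.presheaf (homOfLE hAV) y hyA _).symm).trans ?_
    refine (congrArg _ ?_).trans (TopCat.Presheaf.germ_res_apply E.presheaf (homOfLE hAV) y hyA _)
    exact (H10Coh.mres_mres E _ hAV (s a)).trans (h.trans (H10Coh.mres_mres E _ hAV (s b)).symm)
  obtain ⟨g, hg, -⟩ := TopCat.Sheaf.existsUnique_gluing' (H10Coh.sh E) V ⊤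
    (fun a => homOfLE le_top) (fun y _ => Opens.mem_iSup.2 ⟨y, hxV y⟩) s hcompat
  refine ⟨g, fun hg0 => hf ?_⟩
  refine Scheme.Modules.hom_ext _ _ fun W => ConcreteCategory.hom_ext _ _ fun v => H29Ref.sec_ext L fun y hy => ?_
  obtain ⟨A, hA, hyA, hAW⟩ := exists_isAffineOpen_mem_and_subset (x := y) (U := W ⊓ V y) ⟨hy, hxV y⟩
  have hAW' : A ≤ W := fun z hz => (hAW hz).1
  have hAV : A ≤ V y := fun z hz => (hAW hz).2
  have hsy : s y = 0 := (hg y).symm.trans (by rw [hg0]; exact map_zero _)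
  have h1 : f.app A (E.presheaf.map (homOfLE hAW').op v) = 0 := (φ ⟨A, hA⟩).injective (by
    refine (hs y ⟨A, hA⟩ hAV _).trans ?_
    rw [map_zero, hsy, map_zero]
    exact (ιMulti Γ(X, A) 2).map_coord_zero 0 rfl)
  rw [← TopCat.Presheaf.germ_res_apply L.presheaf (homOfLE hAW') y hyA]
  refine (congrArg _ ((H11Tilde.app_map_apply f _ _).symm.trans h1)).trans ?_
  exact (map_zero _).trans (map_zero _).symm

end Groth.Agent.H02CA.VBPn
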