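import Groth.Agent.H02CA.VBPn.Resolution
import Groth.Agent.H17.PnExt.LocFreeExt

/-!
# Twists of simple modules on projective space
-/

set_option autoImplicit false
set_option linter.style.haveILetI false
set_option backward.isDefEq.respectTransparency false
set_option maxHeartbeats 1600000
universe u

open CategoryTheory CategoryTheory.Limits AlgebraicGeometry
open Groth.Agent Groth.Agent.H10Coh Groth.Agent.H17.Horrocks

namespace Groth.Agent.H02CA.VBPn

variable {k : Type u} [Field k] {d : ℕ}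

local notation "P" => Proj (Pn.Gr d k)

/-- Endomorphisms of twists of modules with scalar endomorphisms are scalars. -/
theorem scalar_twist_od (E : (P).Modules) (a : ℤ)
    (h : ∀ ψ : E ⟶ E, ∃ c : k, ψ = Formal.smulModΓ E (Coh.toGlobal (Pn.toS d k) c))
    (φ : CohB1.tensorMod E (Pn.Od d k a) ⟶ CohB1.tensorMod E (Pn.Od d k a)) :
    ∃ c : k, φ = Formal.smulModΓ (CohB1.tensorMod E (Pn.Od d k a)) (Coh.toGlobal (Pn.toS d k) c) := by
  letI : (P).Over (Spec (CommRingCat.of k)) := ⟨Pn.toS d k⟩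
  let e := swapIso E a
  obtain ⟨c, hc⟩ := h ((T d k a).preimage (e.inv ≫ φ ≫ e.hom))
  refine ⟨c, ?_⟩
  have h1 : e.inv ≫ φ ≫ e.hom = Formal.smulMod k ((T d k a).obj E) c := by
    rw [← (T d k a).map_preimage (e.inv ≫ φ ≫ e.hom), hc]
    exact H17.PnExt.tensor_map_smulMod (Pn.Od d k a) c E
  rw [← cancel_mono e.hom, Euler.smulModΓ_natural, ← cancel_epi e.inv, h1, Iso.inv_hom_id_assoc]
  rfl

/-- The same, for any family equal to the twisting sheaves. -/
theorem scalar_twist (E : (CohB1.ProjSpace d k).Modules) (a : ℤ)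
    (h : ∀ ψ : E ⟶ E, ∃ c : k, ψ = Formal.smulModΓ E (Coh.toGlobal (CohB1.ProjSpace.toSpec d k) c))
    (L : (CohB1.ProjSpace d k).Modules) (hL : L = Pn.Od d k a)
    (φ : CohB1.tensorMod E L ⟶ CohB1.tensorMod E L) :
    ∃ c : k, φ = Formal.smulModΓ (CohB1.tensorMod E L) (Coh.toGlobal (CohB1.ProjSpace.toSpec d k) c) := by
  subst hL
  exact scalar_twist_od E a h φ

/-- A nonzero map `O(-1) → O`. -/
theorem exists_neg_one_hom :
    ∃ μ : Pn.Od d k (-1) ⟶ Coh.structureModule P, μ ≠ 0 := by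
  let U := Coh.structureModule P
  obtain ⟨e₀⟩ := H11Tilde.nonempty_twist_zero_iso (Pn.Gr d k)
  obtain ⟨e₁⟩ := nonempty_T_od (n := d) (R := k) (show (1 : ℤ) = 1 + 0 by omega)
  let e : (T d k 1).obj U ≅ Pn.Od d k 1 := (T d k 1).mapIso e₀.symm ≪≫ e₁
  haveI := nontrivial_H0_od (d := d) (k := k) 1 (by omega)
  obtain ⟨z, hz⟩ := exists_ne (0 : Coh.HH P (Pn.Od d k 1) 0)
  obtain ⟨h, y, hy⟩ := exists_hom_hits U 1 (Hf e.inv 0 z)
  refine ⟨h, fun h0 => hz ?_⟩
  rw [← Hf_id (A := Pn.Od d k 1) z, ← e.inv_hom_id, Hf_comp, ← hy, h0, Functor.map_zero]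
  have h2 : Hf (0 : (T d k 1).obj (Pn.Od d k (-1)) ⟶ (T d k 1).obj U) 0 y = 0 := by
    refine (HH0Equiv _).injective ?_
    rw [HH0_map, map_zero]
    rfl
  rw [h2, map_zero]

/-- The same, for any sheaf equal to `O(-1)`. -/
theorem exists_neg_one_hom' (L : (CohB1.ProjSpace d k).Modules) (a : ℤ) (ha : a = -1) (hL : L = Pn.Od d k a) :
    ∃ μ : L ⟶ Coh.structureModule (CohB1.ProjSpace d k), μ ≠ 0 := by
  subst hL ha
  exact exists_neg_one_hom

end Groth.Agent.H02CA.VBPn
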