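import Groth.Agent.H02CA.Tango.StalkSum
import Groth.Agent.H25Par.Rank
import Groth.Agent.H29Ref.Free
import Groth.Agent.H29RR.MonoHom
import Mathlib.RingTheory.UniqueFactorizationDomain.GCDMonoid

/-!
# Kernels of degenerate endomorphisms of rank two bundles are line bundles
-/

set_option autoImplicit false
set_option linter.style.haveILetI false
set_option backward.isDefEq.respectTransparency false
set_option maxHeartbeats 800000
universe u

open CategoryTheory CategoryTheory.Limits AlgebraicGeometry TopologicalSpace Opposite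
open Groth.Agent

namespace Groth.Agent.H02CA.VBPn

/-- Over a factorial domain the kernel of a nonzero non-injective endomorphism of a free module of rank two is free
of rank one. -/
theorem exists_ker_basis {R M : Type u} [CommRing R] [IsDomain R] [UniqueFactorizationMonoid R] [AddCommGroup M]
    [Module R M] [Module.Free R M] [Module.Finite R M] (h2 : Module.finrank R M = 2) (f : M →ₗ[R] M) (hf : f ≠ 0)
    (hk : LinearMap.ker f ≠ ⊥) : Nonempty (Module.Basis (Fin 1) R (LinearMap.ker f)) := by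
  classical
  haveI : GCDMonoid R := UniqueFactorizationMonoid.toGCDMonoid R
  let b := Module.finBasisOfFinrankEq R M h2
  obtain ⟨i, hi⟩ : ∃ i, b.coord i ∘ₗ f ≠ 0 := by
    by_contra h
    push Not at h
    exact hf (LinearMap.ext fun v => b.ext_elem fun i => by
      simpa using LinearMap.congr_fun (h i) v)
  let ℓ := b.coord i ∘ₗ f
  have hℓ : ∀ v, ℓ v = b.repr v 0 * ℓ (b 0) + b.repr v 1 * ℓ (b 1) := fun v => by
    conv_lhs => rw [← b.sum_repr v, Fin.sum_univ_two, map_add, map_smul, map_smul, smul_eq_mul, smul_eq_mul]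
  have hne : ℓ (b 0) ≠ 0 ∨ ℓ (b 1) ≠ 0 := by
    by_contra h
    push Not at h
    exact hi (LinearMap.ext fun v => by rw [show (b.coord i ∘ₗ f) v = ℓ v from rfl, hℓ, h.1, h.2]; simp)
  obtain ⟨p, q, d, hpq, hp, hq, hd⟩ : ∃ p q d : R, IsRelPrime p q ∧ ℓ (b 0) = d * p ∧ ℓ (b 1) = d * q ∧ d ≠ 0 := by
    obtain ⟨p, q, hp, hq, hu⟩ := extract_gcd (ℓ (b 0)) (ℓ (b 1))
    refine ⟨p, q, gcd (ℓ (b 0)) (ℓ (b 1)), gcd_isUnit_iff_isRelPrime.1 hu, hp, hq, fun h => ?_⟩
    rw [gcd_eq_zero_iff] at h
    exact hne.elim (fun h' => h' h.1) fun h' => h' h.2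
  let u : M := q • b 0 - p • b 1
  have hu0 : u ≠ 0 := fun h => by
    have e0 : q = 0 := by simpa [u] using congrArg (fun z => b.repr z 0) h
    have e1 : p = 0 := by simpa [u] using congrArg (fun z => b.repr z 1) h
    exact hne.elim (fun h' => h' (by rw [hp, e1, mul_zero])) fun h' => h' (by rw [hq, e0, mul_zero])
  have hmult : ∀ v, f v = 0 → ∃ c : R, v = c • u := by
    intro v hv
    have h0 : b.repr v 0 * p + b.repr v 1 * q = 0 := by
      refine (mul_eq_zero.1 ?_).resolve_left hd
      have h1 : ℓ v = 0 := by simp [ℓ, hv]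
      rw [hℓ, hp, hq] at h1
      linear_combination h1
    rcases eq_or_ne q 0 with hq0 | hq0
    · have hpu : IsUnit p := isRelPrime_zero_right.1 (hq0 ▸ hpq)
      have hv0 : b.repr v 0 = 0 := by
        rw [hq0, mul_zero, add_zero, mul_eq_zero] at h0
        exact h0.resolve_right hpu.ne_zero
      obtain ⟨w, rfl⟩ := hpu
      refine ⟨-(b.repr v 1 * ↑w⁻¹), ?_⟩
      conv_lhs => rw [← b.sum_repr v, Fin.sum_univ_two, hv0, zero_smul, zero_add]
      simp [u, hq0, smul_smul, mul_assoc]
    · obtain ⟨c, hc⟩ : q ∣ b.repr v 0 := hpq.symm.dvd_of_dvd_mul_right ⟨-b.repr v 1, by linear_combination h0⟩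
      refine ⟨c, ?_⟩
      have hv1 : b.repr v 1 = -(c * p) := by
        refine mul_right_cancel₀ hq0 ?_
        rw [hc] at h0
        linear_combination h0
      conv_lhs => rw [← b.sum_repr v, Fin.sum_univ_two, hc, hv1]
      rw [show u = q • b 0 - p • b 1 from rfl, smul_sub, smul_smul, smul_smul, mul_comm q c, neg_smul, ← sub_eq_add_neg]
  obtain ⟨v, hv, hv0⟩ := Submodule.exists_mem_ne_zero_of_ne_bot hk
  obtain ⟨c, rfl⟩ := hmult v hv
  have hfu : f u = 0 := by
    have h : c • f u = 0 := by rw [← map_smul]; exact hv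
    exact (smul_eq_zero.1 h).resolve_left fun hc => hv0 (by rw [hc, zero_smul])
  refine ⟨(Module.Basis.singleton (Fin 1) R).map (LinearEquiv.ofBijective
    (LinearMap.toSpanSingleton R _ (⟨u, hfu⟩ : LinearMap.ker f)) ⟨fun a a' h => ?_, fun w => ?_⟩)⟩
  · exact smul_left_injective R hu0 (congrArg Subtype.val h)
  · obtain ⟨c', hc'⟩ := hmult w.1 w.2
    exact ⟨c', Subtype.ext hc'.symm⟩

variable {X : Scheme.{u}}

/-- A nonzero map to a bundle on an integral scheme is nonzero on every stalk. -/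
theorem stalkLin_ne_zero [IsIntegral X] [IsLocallyNoetherian X] {F G : X.Modules} (hF : Coh.IsQCoh F)
    (hG : Coh.IsQCoh G) (hGt : TorSh.IsTorsionFree G) {φ : F ⟶ G} (hφ : φ ≠ 0) (x : X) :
    H06Mod.stalkLin φ x ≠ 0 := by
  intro h0
  obtain ⟨U, hU, hxU, -⟩ := exists_isAffineOpen_mem_and_subset (X := X) (x := x) (U := ⊤) trivial
  have hη : genericPoint X ∈ U := H29Ref.genericPoint_mem hxU
  have hs : ∀ m : Γ(F, U), G.presheaf.germ U (genericPoint X) hη (φ.app U m) = 0 := fun m => by
    rw [← H29Ref.sp_germ G x hxU, ← H06Mod.stalkLin_germ, h0]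
    exact map_zero _
  refine hφ (H29Ref.hom_ext_generic hG hGt φ 0 (LinearMap.ext fun σ => ?_))
  obtain ⟨c, m, hc, hcm⟩ := H29Ref.exists_smul_eq_germ F hF hU hη σ
  haveI : Nonempty U := ⟨⟨x, hxU⟩⟩
  have hc' : IsUnit (X.presheaf.germ U (genericPoint X) hη c) := by
    letI : Field (X.presheaf.stalk (genericPoint X)) := inferInstanceAs (Field X.functionField)
    exact isUnit_iff_ne_zero.2 fun h => hc (germ_injective_of_isIntegral X _ hη (h.trans (map_zero _).symm))
  have h1 : RefHull.stalkMapₗ φ (genericPoint X) σ = 0 := by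
    refine hc'.smul_eq_zero.1 ?_
    rw [← map_smul, hcm, RefHull.stalkMapₗ_germ, hs]
  rw [h1]
  obtain ⟨V, hV, t, rfl⟩ := TopCat.Presheaf.exists_germ_eq F.presheaf σ
  rw [RefHull.stalkMapₗ_germ]
  exact (map_zero _).symm

end Groth.Agent.H02CA.VBPn
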