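import Groth.Agent.H02CA.VBPn.LinSec
import Groth.Agent.H29RR.Pencil
import Groth.Agent.H29CurveDual.HomK
import Groth.Agent.H29RR.P1Split
import Groth.Agent.H22Alg.NakaiGen

/-!
# First cohomology and pencils of hyperplanes
-/

set_option autoImplicit false
set_option linter.style.haveILetI false
set_option backward.isDefEq.respectTransparency false
set_option maxHeartbeats 1600000
universe u

open CategoryTheory CategoryTheory.Limits AlgebraicGeometry TopologicalSpace Opposite
open Groth.Agent Groth.Agent.H11Tilde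
open CohB1 (polyGrading)

namespace Groth.Agent.H02CA.VBPn

attribute [local instance 10000] H10Coh.hasSheafifyAb H10Coh.hasWeakSheafifyAb H10Coh.hasExtAb H10Coh.enoughInjAb

open H22Alg

variable {k : Type u} [Field k]

/-- A pencil of maps which are all injective on first cohomology, one of them bijective, kills it. -/
theorem subsingleton_of_pencil [IsAlgClosed k] {X : Scheme.{u}} [X.Over (Spec (CommRingCat.of k))] {F G : X.Modules}
    [Module.Finite k (Coh.HH X F 1)] (f g : F ⟶ G) (hf : Function.Bijective (Canon.HHlin k f 1))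
    (h : ∀ c : k, Function.Injective (Canon.HHlin k (g + f ≫ Formal.smulMod k G c) 1)) :
    Subsingleton (Coh.HH X G 1) := by
  suffices hF : Subsingleton (Coh.HH X F 1) from (Equiv.ofBijective _ hf).symm.subsingleton
  by_contra hF
  rw [not_subsingleton_iff_nontrivial] at hF
  haveI := hF
  let e := LinearEquiv.ofBijective _ hf
  let A : Module.End k (Coh.HH X F 1) := e.symm.toLinearMap ∘ₗ Canon.HHlin k g 1
  obtain ⟨μ, hμ⟩ := Module.End.exists_eigenvalue A
  obtain ⟨v, hv⟩ := hμ.exists_hasEigenvector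
  refine hv.2 ((injective_iff_map_eq_zero _).1 (h (-μ)) v ?_)
  have hg : Canon.HHlin k g 1 v = μ • Canon.HHlin k f 1 v := by
    have h1 := congrArg e hv.apply_eq_smul
    rw [map_smul] at h1
    exact (e.apply_symm_apply _).symm.trans h1
  rw [H29RR.hhlin_add, H29RR.hhlin_comp, hg,
    show ∀ y, Canon.HHlin k (Formal.smulMod k G (-μ)) 1 y = (-μ) • y from fun y => rfl, neg_smul, add_neg_cancel]

attribute [local instance] H29RR.PnPic.overSpec

variable {n : ℕ}

local notation "P" => CohB1.ProjSpace (n + 1) k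
local notation "O(" d ")" => Twist.twistProjSpace (n + 1) k d
local notation "O'(" d ")" => Twist.twistProjSpace n k d

/-- Multiplication by a section, and the cohomology of its cokernel. -/
theorem mul_seq_gen {X Z : Scheme.{u}} [IsLocallyNoetherian X] [IsLocallyNoetherian Z] (e : Z ⟶ X)
    [IsClosedImmersion e] {L : X.Modules} (s : Coh.structureModule X ⟶ L) [Mono s] (hL : PicF.IsInvertible L)
    (hker : PicF2.zeroScheme L s = e.ker) {F G : X.Modules} (hF : FlatMod.IsFinLocFree F)
    (e2 : CohB1.tensorMod F L ≅ G) {G' : Z.Modules} (eG : (Scheme.Modules.pullback e).obj G ≅ G') :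
    (ShortComplex.mk (SectionCut.mul s F) (cokernel.π _) (cokernel.condition _)).ShortExact ∧
      ∀ q : ℕ, Subsingleton (Coh.HH Z G' q) → Subsingleton (Coh.HH X (cokernel (SectionCut.mul s F)) q) := by
  haveI : DCoh.HasSheafHom F := H10Coh.SheafHom.hasSheafHom F
  haveI := H17.PnExt.preservesMonomorphisms_tensor hF
  have hm : Mono (((DCoh.tensorBi (X := X)).obj F).map s) := Functor.map_mono _ s
  haveI : Mono (SectionCut.mul s F) := mono_comp' inferInstance hm
  refine ⟨{ exact := ShortComplex.exact_cokernel _ }, fun q hq => ?_⟩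
  let C := cokernel (SectionCut.mul s F)
  haveI hunit : IsIso ((Scheme.Modules.pullbackPushforwardAdjunction e).unit.app C) :=
    H16Derived.ProjFormula.isIso_unit_of_killed e (SectionCut.killed_cokernel s e hL hker F)
  obtain ⟨e₁⟩ := MumfordStep.nonempty_pull_cokernel e s hL hker F
  let eR : (Scheme.Modules.pullback e).obj C ≅ G' := e₁ ≪≫ (Scheme.Modules.pullback e).mapIso e2 ≪≫ eG
  haveI hQC : ((Scheme.Modules.pullback e).obj C).IsQuasicoherent :=
    (H17.ConsProp.isCoh_pullback e (H10Coh.isCoh_cokernel _ (H10Coh.Tw.isCoh_of_vb hF).1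
      (H11Ample.isCoh_tensor (H10Coh.Tw.isCoh_of_vb hF) hL))).1
  refine H10Coh.subsingleton_HH_of_iso (@asIso _ _ _ _ _ hunit).symm q ?_
  rw [← CMField.van_iff]
  exact (H10Coh.affineLerayEquiv e ((Scheme.Modules.pullback e).obj C) q ⊤).toEquiv.subsingleton_congr.2
    (CMField.van_iff.2 (H10Coh.subsingleton_HH_of_iso eR.symm q hq))

/-- Multiplication by a hyperplane on first cohomology. -/
theorem hhlin_mul (a : Fin (n + 2) → k) (p : Fin (n + 2)) (hp : a p ≠ 0) {E : (P).Modules}
    (hE : FlatMod.IsFinLocFree E) (j : ℤ) :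
    (Subsingleton (Coh.HH (CohB1.ProjSpace n k)
          (CohB1.tensorMod ((Scheme.Modules.pullback (HyperplanePn.emb a p)).obj E) O'(j)) 0) →
        Function.Injective (Canon.HHlin k
          (SectionCut.mul (X := P) (L := O(1)) (hypSec a) (CohB1.tensorMod E O(j - 1))) 1)) ∧
      (Subsingleton (Coh.HH (CohB1.ProjSpace n k)
          (CohB1.tensorMod ((Scheme.Modules.pullback (HyperplanePn.emb a p)).obj E) O'(j)) 1) →
        Function.Surjective (Canon.HHlin k
          (SectionCut.mul (X := P) (L := O(1)) (hypSec a) (CohB1.tensorMod E O(j - 1))) 1)) := by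
  haveI := CMHyper.noetherian k (n + 1)
  haveI := CMHyper.noetherian k n
  have hT := H10Coh.Stab.isTwistFamily_projSpace (n + 1) k
  have hT' := H10Coh.Stab.isTwistFamily_projSpace n k
  let e : CohB1.ProjSpace n k ⟶ P := HyperplanePn.emb a p
  haveI : IsClosedImmersion e := HyperplanePn.isClosedImmersion_emb a p
  obtain ⟨-, -, -, ⟨eL⟩⟩ := exists_cutting_section a p hp
  obtain ⟨hsm, hker⟩ := hypSec_cuts a p hp
  let s : Coh.structureModule P ⟶ O(1) := hypSec a
  haveI : Mono s := hsm
  obtain ⟨t⟩ := hT.add (j - 1) 1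
  obtain ⟨τ⟩ := MumfordStep.fam_unique (hT.pullback e) hT' eL j
  obtain ⟨hS, h₃⟩ := mul_seq_gen e s (hT.inv 1) hker
    (H16Derived.KFlat.Stalk.isFinLocFree_tensor hE (H28Pinch.isFinLocFree_of_isInvertible (hT.inv (j - 1))))
    (H10Coh.Tw.assoc E O(j - 1) O(1) ≪≫ PicGrp.tensorModIso (Iso.refl E) (t ≪≫ eqToIso (congrArg _ (sub_add_cancel j 1))))
    (((H16Derived.KFlat.Stalk.pullTensorLIso e O(j)).app E) ≪≫ PicGrp.tensorModIso (Iso.refl _) τ)
  exact ⟨fun h => NakaiGen.hhlin_f_injective k hS 0 (h₃ 0 h), fun h => NakaiGen.hhlin_f_surjective k hS 1 (h₃ 1 h)⟩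

theorem mul_add_smul (a b : Fin (n + 2) → k) (c : k) (F : (P).Modules) :
    SectionCut.mul (L := O(1)) (hypSec (b + c • a)) F = SectionCut.mul (L := O(1)) (hypSec b) F +
      SectionCut.mul (L := O(1)) (hypSec a) F ≫ Formal.smulMod k (CohB1.tensorMod F O(1)) c := by
  haveI : ((DCoh.tensorBi (X := P)).obj F).Additive := inferInstance
  rw [hypSec_add_smul, SectionCut.mul, SectionCut.mul, SectionCut.mul, Category.assoc, ← Preadditive.comp_add]
  refine congrArg (_ ≫ ·) ?_
  refine (Functor.map_add _).trans (congrArg (_ + ·) ?_)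
  refine (Functor.map_comp _ _ _).trans (congrArg (_ ≫ ·) ?_)
  exact H17.PnExt.tensor_map_smulMod F c O(1)

/-- First cohomology vanishes in the presence of a pencil of hyperplanes on which a bundle has no
cohomology in degrees zero and one. -/
theorem subsingleton_h1_of_pencil [IsAlgClosed k] (a b : Fin (n + 2) → k) (pa : Fin (n + 2)) (ha : a pa ≠ 0)
    (pb : k → Fin (n + 2)) (hb : ∀ c : k, (b + c • a) (pb c) ≠ 0) {E : (P).Modules} (hE : FlatMod.IsFinLocFree E)
    (j : ℤ)
    (h0 : ∀ (v : Fin (n + 2) → k) (p : Fin (n + 2)), v p ≠ 0 → (v = a ∧ p = pa ∨ ∃ c, v = b + c • a ∧ p = pb c) →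
      Subsingleton (Coh.HH (CohB1.ProjSpace n k)
        (CohB1.tensorMod ((Scheme.Modules.pullback (HyperplanePn.emb v p)).obj E) O'(j)) 0))
    (h1 : Subsingleton (Coh.HH (CohB1.ProjSpace n k)
        (CohB1.tensorMod ((Scheme.Modules.pullback (HyperplanePn.emb a pa)).obj E) O'(j)) 1)) :
    Subsingleton (Coh.HH P (CohB1.tensorMod E O(j)) 1) := by
  haveI : IsProper (P ↘ Spec (CommRingCat.of k)) := H27Weil.isProper_toSpec (n + 1) k
  haveI := H29RR.isNoetherian_of_proper (k := k) (X := P)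
  have hT := H10Coh.Stab.isTwistFamily_projSpace (n + 1) k
  let F := CohB1.tensorMod E O(j - 1)
  haveI : Module.Finite k (Coh.HH P F 1) := H10Coh.finite_HH_proper k _ _
    (H11Ample.isCoh_tensor (H10Coh.Tw.isCoh_of_vb hE) (hT.inv (j - 1))) 1
  obtain ⟨t⟩ := hT.add (j - 1) 1
  refine H10Coh.subsingleton_HH_of_iso (H10Coh.Tw.assoc E O(j - 1) O(1) ≪≫ PicGrp.tensorModIso (Iso.refl E)
    (t ≪≫ eqToIso (congrArg _ (sub_add_cancel j 1)))) 1 ?_
  refine subsingleton_of_pencil (k := k) (X := P) (SectionCut.mul (L := O(1)) (hypSec a) F) (SectionCut.mul (L := O(1)) (hypSec b) F) ?_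
    fun c => ?_
  · obtain ⟨k1, k2⟩ := hhlin_mul a pa ha hE j
    exact ⟨k1 (h0 a pa ha (Or.inl ⟨rfl, rfl⟩)), k2 h1⟩
  · rw [← mul_add_smul]
    exact (hhlin_mul (b + c • a) (pb c) (hb c) hE j).1 (h0 _ _ (hb c) (Or.inr ⟨c, rfl, rfl⟩))

end Groth.Agent.H02CA.VBPn
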