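import Groth.Agent.H02CA.VBPn.Factor
import Groth.Agent.H11Proj.SeparatesPoints

/-!
# Pencils of hyperplanes through a closed point
-/

set_option autoImplicit false
set_option linter.style.haveILetI false
set_option backward.isDefEq.respectTransparency false
set_option maxHeartbeats 1600000
universe u

open CategoryTheory CategoryTheory.Limits AlgebraicGeometry TopologicalSpace Opposite MvPolynomial
open Groth.Agent

namespace Groth.Agent.H02CA.VBPn

open H22Alg

variable {k : Type u} [Field k] [IsAlgClosed k] {n : ℕ}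

/-- A pencil of hyperplanes through a closed point of a space of dimension at least two. -/
theorem exists_pencil_through (hn : 1 ≤ n) (x : CohB1.ProjSpace (n + 1) k)
    (hx : IsClosed ({x} : Set (CohB1.ProjSpace (n + 1) k))) :
    ∃ (a b : Fin (n + 2) → k) (pa pb : Fin (n + 2)), a pa ≠ 0 ∧ (∀ c : k, (b + c • a) pb ≠ 0) ∧
      x ∈ Set.range (HyperplanePn.emb a pa).base ∧
      ∀ c : k, x ∈ Set.range (HyperplanePn.emb (b + c • a) pb).base := by
  obtain ⟨i, hi⟩ := H11Ample.exists_mem_basicOpen_X (n := n + 1) (R := k) x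
  haveI := H11Proj.SepPts.isMaximal_primeIdealOf (i := i) hi hx
  obtain ⟨α, hα, -⟩ := H11Proj.SepPts.exists_coords ((H11Proj.SepPts.isAffineOpen_U i).primeIdealOf ⟨x, hi⟩).asIdeal
  obtain ⟨j₁, j₂, h1, h2, h12⟩ : ∃ j₁ j₂ : Fin (n + 2), j₁ ≠ i ∧ j₂ ≠ i ∧ j₁ ≠ j₂ := by
    obtain ⟨j₁, j₂, h⟩ : ∃ j₁ j₂ : Fin (n + 1), j₁ ≠ j₂ := ⟨0, ⟨1, by omega⟩, by simp [Fin.ext_iff]⟩
    exact ⟨i.succAbove j₁, i.succAbove j₂, Fin.succAbove_ne _ _, Fin.succAbove_ne _ _,
      fun e => h (Fin.succAbove_right_injective e)⟩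
  let v : Fin (n + 2) → Fin (n + 2) → k := fun j => Pi.single j 1 + (-α j) • Pi.single i 1
  have hp : ∀ c : k, (v j₂ + c • v j₁) j₂ = 1 := fun c => by simp [v, h2, h12.symm]
  have hmem : ∀ w : Fin (n + 2) → k,
      H11Proj.SepPts.lin i w ∈ ((H11Proj.SepPts.isAffineOpen_U i).primeIdealOf ⟨x, hi⟩).asIdeal →
      HyperplaneAlg.form w ∈ x.asHomogeneousIdeal.toIdeal := fun w hw => by
    refine mem_of_not_isUnit_ev x i hi w fun hu => ?_
    letI := TopCat.Presheaf.algebra_section_stalk (CohB1.ProjSpace (n + 1) k).presheaf ⟨x, hi⟩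
    haveI := (H11Proj.SepPts.isAffineOpen_U (k := k) i).isLocalization_stalk ⟨x, hi⟩
    exact (IsLocalization.AtPrime.isUnit_to_map_iff ((CohB1.ProjSpace (n + 1) k).presheaf.stalk x) _ _).1 hu hw
  refine ⟨v j₁, v j₂, j₁, j₂, by simp [v, h1], fun c => by rw [hp]; exact one_ne_zero, ?_, fun c => ?_⟩
  · refine mem_range_emb _ _ (by simp [v, h1]) x (hmem _ ?_)
    rw [H11Proj.SepPts.lin_sub_single]
    exact hα j₁
  · refine mem_range_emb _ _ (by rw [hp]; exact one_ne_zero) x (hmem _ ?_)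
    rw [H11Proj.SepPts.lin_add, H11Proj.SepPts.lin_smul, H11Proj.SepPts.lin_sub_single,
      H11Proj.SepPts.lin_sub_single]
    exact Ideal.add_mem _ (hα j₂) (Ideal.mul_mem_left _ _ (hα j₁))

end Groth.Agent.H02CA.VBPn
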