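import Groth.Agent.H02CA.VBPn.Linear
import Groth.Agent.H02CA.VBPn.Pencil
import Groth.Agent.H02CA.VBPn.Point
import Groth.Agent.H26Def.AdicPic
import Groth.Agent.H11Proj.ProjSpace

/-!
# Bundles trivial on the lines through a point
-/

set_option autoImplicit false
set_option linter.style.haveILetI false
set_option maxHeartbeats 1600000
universe u

open CategoryTheory CategoryTheory.Limits AlgebraicGeometry
open Groth.Agent

namespace Groth.Agent.H02CA.VBPn

attribute [local instance 10000] H10Coh.hasSheafifyAb H10Coh.hasWeakSheafifyAb H10Coh.hasExtAb H10Coh.enoughInjAb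
attribute [local instance] H29RR.PnPic.overSpec

open H22Alg

variable {k : Type u} [Field k] {n : ℕ}

theorem exists_freeMod_iso_zero {r : ℕ} {E : (CohB1.ProjSpace 0 k).Modules} (hE : FlatMod.IsFinLocFreeOfRank r E) :
    Nonempty (E ≅ FlatMod.freeMod (CohB1.ProjSpace 0 k) r) := by
  haveI : IsIso (CohB1.ProjSpace.toSpec 0 k) := H11Proj.ProjSpace.isIso_toSpec_zero (R := k)
  haveI := CMHyper.noetherian k 0
  haveI : IsIntegral (CohB1.ProjSpace 0 k) := LeadPic.PnRel.isIntegral_projSpace (n := 0) k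
  let t := CohB1.ProjSpace.toSpec 0 k
  have hflf : FlatMod.IsFinLocFree E := fun x =>
    let ⟨U, hx, he⟩ := hE x
    ⟨U, r, hx, he⟩
  obtain ⟨r', ⟨u⟩⟩ := H26Def.exists_iso_freeMod_of_field k ((Scheme.Modules.pullback (inv t)).obj E)
    (H16Derived.KFlat.Stalk.isCoh_of_isFinLocFree (H16Derived.KFlat.Stalk.isFinLocFree_pullback _ hflf))
  let e : E ≅ FlatMod.freeMod (CohB1.ProjSpace 0 k) r' :=
    ((Scheme.Modules.pullbackId _).app E).symm ≪≫
      ((Scheme.Modules.pullbackCongr (IsIso.hom_inv_id t)).app E).symm ≪≫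
      ((Scheme.Modules.pullbackComp t (inv t)).app E).symm ≪≫ (Scheme.Modules.pullback t).mapIso u ≪≫
      H16Derived.KFlat.Stalk.freeModPullbackIso t r'
  obtain rfl := rank_sum_eq (fun _ : Fin r' => Coh.structureModule (CohB1.ProjSpace 0 k))
    (fun _ => H11Ample.isInvertible_structureModule) hE e
  exact ⟨e⟩

/-- A split bundle which is free on a hyperplane is free. -/
theorem free_of_split (hn : 1 ≤ n) (a : Fin (n + 2) → k) (p : Fin (n + 2)) (hp : a p ≠ 0) {r : ℕ}
    {E : (CohB1.ProjSpace (n + 1) k).Modules} (b : Fin r → ℤ)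
    (e : E ≅ ∐ fun j => Twist.twistProjSpace (n + 1) k (b j))
    (eH : (Scheme.Modules.pullback (HyperplanePn.emb a p)).obj E ≅ FlatMod.freeMod (CohB1.ProjSpace n k) r) :
    Nonempty (E ≅ FlatMod.freeMod (CohB1.ProjSpace (n + 1) k) r) := by
  haveI : IsProper (CohB1.ProjSpace n k ↘ Spec (CommRingCat.of k)) := H27Weil.isProper_toSpec n k
  haveI := CMHyper.noetherian k n
  have hn0 : n ≠ 0 := by omega
  have hT := H10Coh.Stab.isTwistFamily_projSpace (n + 1) k
  have hT' := H10Coh.Stab.isTwistFamily_projSpace n k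
  obtain ⟨-, -, -, ⟨eL⟩⟩ := exists_cutting_section a p hp
  let f := HyperplanePn.emb a p
  obtain ⟨z'⟩ := hT'.zero
  haveI : PreservesColimitsOfSize.{0, 0} (Scheme.Modules.pullback f) :=
    (Scheme.Modules.pullbackPushforwardAdjunction f).leftAdjoint_preservesColimits
  let eb : (∐ fun j => Twist.twistProjSpace n k (b j)) ≅ ∐ fun _ : Fin r => Twist.twistProjSpace n k 0 :=
    ((Scheme.Modules.pullback f).mapIso e ≪≫
      PreservesCoproduct.iso (Scheme.Modules.pullback f) (fun j => Twist.twistProjSpace (n + 1) k (b j)) ≪≫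
      Sigma.mapIso fun j => (MumfordStep.fam_unique (hT.pullback f) hT' eL (b j)).some).symm ≪≫ eH ≪≫
      Sigma.mapIso fun _ => z'.symm
  have hneg : ∀ j, b j ≤ 0 := fun j => by
    by_contra hj
    obtain ⟨t₁⟩ := H29RR.PnPic.nonempty_tensor_sum (n := n) (k := k) b (-1)
    obtain ⟨t₂⟩ := H29RR.PnPic.nonempty_tensor_sum (n := n) (k := k) (fun _ : Fin r => (0 : ℤ)) (-1)
    haveI : Subsingleton (Coh.HH (CohB1.ProjSpace n k) (∐ fun i => Twist.twistProjSpace n k (b i + -1)) 0) :=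
      H10Coh.subsingleton_HH_of_iso (t₁.symm ≪≫ PicGrp.tensorModIso eb (Iso.refl _) ≪≫ t₂).symm 0
        (H17.Horrocks.subsingleton_map_sigma _ (𝟭 _) 0 fun _ => H29RR.PnPic.subsingleton_h0_neg hn0 (by omega))
    have h1 := H17.Horrocks.subsingleton_retract (Sigma.ι (fun i => Twist.twistProjSpace n k (b i + -1)) j)
      (Euler.proj (fun i => Twist.twistProjSpace n k (b i + -1)) j) (by rw [Euler.ι_proj, dif_pos rfl]; rfl) 0 this
    exact not_nontrivial_iff_subsingleton.2 h1 (H29RR.PnPic.nontrivial_h0_nonneg (by omega))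
  have hb : ∀ j, b j = 0 := fun j => by
    have h1 := (H29RR.hhIso (k := k) eb 0).finrank_eq
    rw [(H29RR.PnPic.finrank_h0_sum hn0 b).1, (H29RR.PnPic.finrank_h0_sum hn0 fun _ : Fin r => (0 : ℤ)).1] at h1
    by_contra hj
    refine Nat.lt_irrefl _ (h1.symm.le.trans_lt (Finset.sum_lt_sum (fun i _ => ?_) ⟨j, Finset.mem_univ j, ?_⟩))
    · rcases (hneg i).lt_or_eq with h | h
      · haveI := H29RR.PnPic.subsingleton_h0_neg (k := k) hn0 h
        rw [Module.finrank_zero_of_subsingleton]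
        exact Nat.zero_le _
      · rw [h]
    · haveI := H29RR.PnPic.subsingleton_h0_neg (k := k) hn0 (lt_of_le_of_ne (hneg j) hj)
      rw [Module.finrank_zero_of_subsingleton, H29RR.PnPic.finrank_h0_zero]
      exact Nat.one_pos
  obtain ⟨z⟩ := hT.zero
  exact ⟨e ≪≫ Sigma.mapIso fun j => eqToIso (congrArg _ (hb j)) ≪≫ z⟩

/-- On the plane, first cohomology of all twists vanishes. -/
theorem subsingleton_h1_plane [IsAlgClosed k] {E : (CohB1.ProjSpace 2 k).Modules} (hE : FlatMod.IsFinLocFree E) {r : ℕ}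
    (a b : Fin 3 → k) (pa pb : Fin 3) (ha : a pa ≠ 0) (hb : ∀ c : k, (b + c • a) pb ≠ 0)
    (hA : Nonempty ((Scheme.Modules.pullback (HyperplanePn.emb a pa)).obj E ≅ FlatMod.freeMod (CohB1.ProjSpace 1 k) r))
    (hB : ∀ c : k, Nonempty ((Scheme.Modules.pullback (HyperplanePn.emb (b + c • a) pb)).obj E ≅
      FlatMod.freeMod (CohB1.ProjSpace 1 k) r)) (d : ℤ) :
    Subsingleton (Coh.HH (CohB1.ProjSpace 2 k) (CohB1.tensorMod E (Twist.twistProjSpace 2 k d)) 1) := by
  have van : ∀ (F : (CohB1.ProjSpace 1 k).Modules), Nonempty (F ≅ FlatMod.freeMod (CohB1.ProjSpace 1 k) r) →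
      (∀ j : ℤ, j < 0 → Subsingleton (Coh.HH (CohB1.ProjSpace 1 k) (CohB1.tensorMod F (Twist.twistProjSpace 1 k j)) 0)) ∧
      (∀ j : ℤ, -1 ≤ j → Subsingleton (Coh.HH (CohB1.ProjSpace 1 k) (CohB1.tensorMod F (Twist.twistProjSpace 1 k j)) 1)) := by
    rintro F ⟨e⟩
    obtain ⟨z⟩ := (H10Coh.Stab.isTwistFamily_projSpace 1 k).zero
    let e' : F ≅ ∐ fun _ : Fin r => Twist.twistProjSpace 1 k 0 := e ≪≫ Sigma.mapIso fun _ => z.symm
    constructor
    all_goals
      intro j hj
      obtain ⟨w⟩ := H29RR.PnPic.nonempty_tensor_sum (n := 1) (k := k) (fun _ : Fin r => (0 : ℤ)) j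
      refine H10Coh.subsingleton_HH_of_iso (PicGrp.tensorModIso e' (Iso.refl _) ≪≫ w).symm _ ?_
      exact H17.Horrocks.subsingleton_map_sigma _ (𝟭 _) _ fun _ => H10Coh.Pn.subsingleton_HH_Od _ (by omega) (by omega)
  have base : Subsingleton (Coh.HH (CohB1.ProjSpace 2 k) (CohB1.tensorMod E (Twist.twistProjSpace 2 k (-1))) 1) := by
    refine subsingleton_h1_of_pencil (n := 1) a b pa ha (fun _ => pb) hb hE (-1) ?_ ((van _ hA).2 _ le_rfl)
    rintro v p - (⟨rfl, rfl⟩ | ⟨c, rfl, rfl⟩)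
    · exact (van _ hA).1 _ (by omega)
    · exact (van _ (hB c)).1 _ (by omega)
  have up : ∀ t : ℕ, Subsingleton (Coh.HH (CohB1.ProjSpace 2 k) (CohB1.tensorMod E (Twist.twistProjSpace 2 k (-1 + t))) 1) ∧
      Subsingleton (Coh.HH (CohB1.ProjSpace 2 k) (CohB1.tensorMod E (Twist.twistProjSpace 2 k (-1 - t))) 1) := by
    intro t
    induction t with
    | zero => simpa using base
    | succ t ih =>
      constructor
      · obtain ⟨S, hS, ⟨e₁⟩, ⟨e₂⟩, h₃⟩ := exists_seq (n := 1) a pa ha hE (-1 + (t + 1 : ℕ))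
        rw [show (-1 + ((t + 1 : ℕ) : ℤ)) - 1 = -1 + t by push_cast; ring] at e₁
        refine H10Coh.subsingleton_HH_of_iso e₂ 1 (CMField.van_iff.1 ?_)
        exact H10Coh.Tw.subsingleton_X₂ (H10Coh.shortExact_sh hS)
          (CMField.van_iff.2 (H10Coh.subsingleton_HH_of_iso e₁.symm 1 ih.1))
          (CMField.van_iff.2 ((h₃ 1).2 ((van _ hA).2 _ (by omega))))
      · obtain ⟨S, hS, ⟨e₁⟩, ⟨e₂⟩, h₃⟩ := exists_seq (n := 1) a pa ha hE (-1 - (t : ℤ))
        rw [show (-1 - (t : ℤ)) - 1 = -1 - ((t + 1 : ℕ) : ℤ) by push_cast; ring] at e₁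
        refine H10Coh.subsingleton_HH_of_iso e₁ 1 (CMField.van_iff.1 ?_)
        exact H28Int.subsingleton_X₁ (H10Coh.shortExact_sh hS)
          (CMField.van_iff.2 (H10Coh.subsingleton_HH_of_iso e₂.symm 1 ih.2))
          (CMField.van_iff.2 ((h₃ 0).2 ((van _ hA).1 _ (by omega))))
  rcases le_or_gt (-1) d with h | h
  · have := (up (d + 1).toNat).1
    rwa [show -1 + (((d + 1).toNat : ℕ) : ℤ) = d by omega] at this
  · have := (up (-1 - d).toNat).2
    rwa [show -1 - (((-1 - d).toNat : ℕ) : ℤ) = d by omega] at this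

/-- A bundle trivial on all lines through a point is trivial. -/
theorem free_of_lines [IsAlgClosed k] : ∀ (n r : ℕ) (E : (CohB1.ProjSpace n k).Modules),
    FlatMod.IsFinLocFreeOfRank r E → ∀ x : CohB1.ProjSpace n k, IsClosed ({x} : Set (CohB1.ProjSpace n k)) →
    (∀ (i : CohB1.ProjSpace 1 k ⟶ CohB1.ProjSpace n k) [IsClosedImmersion i],
      i ≫ CohB1.ProjSpace.toSpec n k = CohB1.ProjSpace.toSpec 1 k →
      Nonempty ((Scheme.Modules.pullback i).obj (Twist.twistProjSpace n k 1) ≅ Twist.twistProjSpace 1 k 1) →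
      x ∈ Set.range i.base →
      Nonempty ((Scheme.Modules.pullback i).obj E ≅ FlatMod.freeMod (CohB1.ProjSpace 1 k) r)) →
    Nonempty (E ≅ FlatMod.freeMod (CohB1.ProjSpace n k) r) := by
  intro n
  induction n with
  | zero => exact fun r E hE _ _ _ => exists_freeMod_iso_zero hE
  | succ n ih =>
    intro r E hE x hx h
    rcases Nat.eq_zero_or_pos n with rfl | hn
    · obtain ⟨e⟩ := h (𝟙 _) (Category.id_comp _) ⟨(Scheme.Modules.pullbackId _).app _⟩ ⟨x, rfl⟩
      exact ⟨((Scheme.Modules.pullbackId _).app E).symm ≪≫ e⟩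
    have hflf : FlatMod.IsFinLocFree E := fun y =>
      let ⟨U, hy, he⟩ := hE y
      ⟨U, r, hy, he⟩
    haveI := CMHyper.noetherian k n
    obtain ⟨a, b, pa, pb, ha, hb, hxa, hxb⟩ := exists_pencil_through hn x hx
    have hH : ∀ (v : Fin (n + 2) → k) (p : Fin (n + 2)), v p ≠ 0 → x ∈ Set.range (HyperplanePn.emb v p).base →
        Nonempty ((Scheme.Modules.pullback (HyperplanePn.emb v p)).obj E ≅ FlatMod.freeMod (CohB1.ProjSpace n k) r) := by
      intro v p hp hxr
      obtain ⟨y, hy⟩ := hxr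
      let f : CohB1.ProjSpace n k ⟶ CohB1.ProjSpace (n + 1) k := HyperplanePn.emb v p
      haveI hcf : IsClosedImmersion f := HyperplanePn.isClosedImmersion_emb v p
      obtain ⟨-, -, -, ⟨eL⟩⟩ := exists_cutting_section v p hp
      refine ih r _ (H26Gr.isFinLocFreeOfRank_pullback f hE) y ?_ fun i _ hi hO hyr => ?_
      · have : ({y} : Set (CohB1.ProjSpace n k)) = f.base ⁻¹' {x} := by
          ext z
          exact ⟨fun hz => by rw [Set.mem_singleton_iff.1 hz]; exact hy,
            fun hz => hcf.base_closed.injective (hz.trans hy.symm)⟩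
        exact this.symm ▸ hx.preimage f.continuous
      · obtain ⟨eO⟩ := hO
        obtain ⟨w, hw⟩ := hyr
        obtain ⟨u⟩ := h (i ≫ f) (by rw [Category.assoc]; exact (congrArg (i ≫ ·) (MumfordStep.emb_toSpec v p)).trans hi)
          ⟨((Scheme.Modules.pullbackComp i f).app _).symm ≪≫ (Scheme.Modules.pullback i).mapIso eL ≪≫ eO⟩
          ⟨w, by rw [← hy, ← hw]; rfl⟩
        exact ⟨(Scheme.Modules.pullbackComp i f).app E ≪≫ u⟩
    obtain ⟨eH⟩ := hH a pa ha hxa
    obtain ⟨z'⟩ := (H10Coh.Stab.isTwistFamily_projSpace n k).zero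
    have hmid : NoMid (n + 1) E := by
      rcases (show n = 1 ∨ 2 ≤ n by omega) with rfl | hn2
      · intro q d hq hq2
        obtain rfl : q = 1 := by omega
        exact subsingleton_h1_plane hflf a b pa pb ha hb ⟨eH⟩ (fun c => hH _ pb (hb c) (hxb c)) d
      · exact noMid_of_hyperplane hn2 a pa ha hflf
          (noMid_of_split (fun _ : Fin r => (0 : ℤ)) (eH ≪≫ Sigma.mapIso fun _ => z'.symm))
    obtain ⟨c, ⟨e⟩⟩ := exists_split (by omega) hE hmid
    exact free_of_split hn a pa ha c e eH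

end Groth.Agent.H02CA.VBPn
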