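import Groth.Agent.H8Props.FinLocFree.Global
import Groth.Agent.H16Derived.KFlat.PerfConc
import Groth.Agent.H16Derived.KFlat.FlatIff
import Groth.Agent.H29Omega.ConormalSplit
import Groth.Agent.H25Par.Rank
import Groth.Agent.H29RR.Common
import Groth.Agent.H10Coh.FinType2
import Groth.Agent.H06Mod.StalkExact

/-!
# Cokernels of maps of bundles with stalkwise retractions are bundles
-/

set_option autoImplicit false
set_option linter.style.haveILetI false
set_option backward.isDefEq.respectTransparency false
set_option maxHeartbeats 1600000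
universe u

open CategoryTheory CategoryTheory.Limits AlgebraicGeometry TopologicalSpace Opposite
open Groth.Agent.H06Mod Groth.Agent.H16Derived.KFlat Groth.Agent.H16Derived.KFlat.Stalk

namespace Groth.Agent.H02CA.VBPn

variable {X : Scheme.{u}} [IsLocallyNoetherian X]

/-- A monomorphism with stalkwise retractions has a bundle as cokernel. -/
theorem mono_and_coker_rank {L E : X.Modules} {a n : ℕ} (v : L ⟶ E) (hL : FlatMod.IsFinLocFreeOfRank a L)
    (hE : FlatMod.IsFinLocFreeOfRank n E)
    (h : ∀ x, ∃ r : E.presheaf.stalk x →ₗ[X.presheaf.stalk x] L.presheaf.stalk x,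
      r ∘ₗ stalkLin v x = LinearMap.id) :
    Mono v ∧ FlatMod.IsFinLocFreeOfRank (n - a) (cokernel v) := by
  haveI : Mono v := H29Omega.mono_of_injective_stalkLin v fun x => by
    obtain ⟨r, hr⟩ := h x
    exact Function.LeftInverse.injective (g := r) (LinearMap.congr_fun hr)
  refine ⟨inferInstance, ?_⟩
  have hS : (ShortComplex.mk v (cokernel.π v) (cokernel.condition v)).ShortExact :=
    { exact := ShortComplex.exact_cokernel _ }
  have hL' : FlatMod.IsFinLocFree L := fun y => let ⟨U, hU⟩ := hL y; ⟨U, a, hU⟩
  have hE' : FlatMod.IsFinLocFree E := fun y => let ⟨U, hU⟩ := hE y; ⟨U, n, hU⟩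
  have hCoh : Coh.IsCoh (cokernel v) :=
    H10Coh.isCoh_cokernel v (H8Props.FinLocFree.isQCoh_of_isFinLocFree L hL') (Stalk.isCoh_of_isFinLocFree hE')
  have key : ∀ x : X, Module.Free (X.presheaf.stalk x) ((cokernel v).presheaf.stalk x) ∧
      Module.Finite (X.presheaf.stalk x) ((cokernel v).presheaf.stalk x) ∧
      Module.finrank (X.presheaf.stalk x) ((cokernel v).presheaf.stalk x) = n - a := by
    intro x
    obtain ⟨r, hr⟩ := h x
    obtain ⟨hfreeE, hfinE, hrE⟩ := H25Par.finrank_stalk hE x
    obtain ⟨hfreeL, hfinL, hrL⟩ := H25Par.finrank_stalk hL x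
    haveI := hfreeE; haveI := hfinE; haveI := hfreeL; haveI := hfinL
    have hexact := stalk_exact _ hS x
    have hs := stalk_surjective _ hS x
    have hinj := stalk_injective _ hS x
    obtain ⟨e, -, -⟩ := ((hexact.split_tfae hinj hs).out 1 2).1
      (⟨r, hr⟩ : ∃ l, l ∘ₗ stalkLin (ShortComplex.mk v (cokernel.π v) (cokernel.condition v)).f x = LinearMap.id)
    haveI : Module.Finite (X.presheaf.stalk x) ((cokernel v).presheaf.stalk x) := Module.Finite.of_surjective _ hs
    haveI : Module.Projective (X.presheaf.stalk x) (L.presheaf.stalk x × (cokernel v).presheaf.stalk x) :=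
      Module.Projective.of_equiv e
    haveI : Module.Projective (X.presheaf.stalk x) ((cokernel v).presheaf.stalk x) :=
      Module.Projective.of_split (LinearMap.inr _ (L.presheaf.stalk x) _) (LinearMap.snd _ _ _) (LinearMap.snd_comp_inr ..)
    haveI : Module.Free (X.presheaf.stalk x) ((cokernel v).presheaf.stalk x) := Module.free_of_flat_of_isLocalRing
    refine ⟨inferInstance, inferInstance, ?_⟩
    have h1 := e.finrank_eq
    dsimp only at h1
    rw [Module.finrank_prod, hrE, hrL] at h1
    omega
  have hr : ∀ x, rfd (cokernel v) x = n - a := fun x => by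
    obtain ⟨hf, hfi, hfr⟩ := key x
    haveI := hf; haveI := hfi
    rw [← hfr]
    unfold rfd
    rw [Module.finrank_baseChange]
  have hflat : FlatMod.IsFlat (cokernel v) := fun x => by
    obtain ⟨hf, -, -⟩ := key x
    haveI := hf
    exact Module.Flat.of_free
  refine isFinLocFreeOfRank_of_rfd (H8Props.FinLocFree.isFinLocFree_of_rank _ hCoh.1 hCoh.2 (Or.inr hflat) ?_) _ hr
  refine IsLocallyConstant.of_constant _ fun x y => ?_
  exact (hr x).trans (hr y).symm

end Groth.Agent.H02CA.VBPn
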