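import Groth.Agent.H02CA.VBPn.Hyper
import Groth.Agent.H02CA.Tango.Stalk
import Groth.Agent.H02CA.Euler.Restrict
import Groth.Agent.H24Quot.Scalars

/-!
# Linear subspaces of positive codimension lie in hyperplanes
-/

set_option autoImplicit false
set_option linter.style.haveILetI false
set_option backward.isDefEq.respectTransparency false
set_option maxHeartbeats 1600000
universe u

open CategoryTheory CategoryTheory.Limits AlgebraicGeometry TopologicalSpace Opposite MvPolynomial
open Groth.Agent.H11Tilde Groth.Agent.H10Coh.Pn Groth.Agent.H02CA.Euler Groth.Agent.H06Mod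
open scoped TensorProduct

namespace Groth.Agent.H02CA.VBPn

variable {k : Type u} [Field k] {m N : ℕ}

/-- A linear form whose chart value is not a unit at a point vanishes there. -/
theorem mem_of_not_isUnit_ev (x : Proj (Gr N k)) (i₀ : Fin (N + 1)) (hx : x ∈ chart (R := k) i₀) (a : Fin (N + 1) → k)
    (hnu : ¬ IsUnit ((Proj (Gr N k)).presheaf.germ (chart i₀) x hx (Tango.ev i₀ a))) :
    (∑ l, C (a l) * X l) ∈ x.asHomogeneousIdeal.toIdeal := by
  let e : Γ(Proj (Gr N k), chart (R := k) i₀) := Tango.ev i₀ a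
  by_contra hnot
  refine hnu ?_
  let D : (Proj (Gr N k)).Opens := chart i₀ ⊓ Proj.basicOpen (Gr N k) (∑ l, C (a l) * X l)
  have hD : x ∈ D := ⟨hx, hnot⟩
  have hm : (∑ l, C (a l) * X l : MvPolynomial (Fin (N + 1)) k) ∈ Gr N k 1 :=
    IsHomogeneous.sum _ _ _ fun t _ => isHomogeneous_C_mul_X _ _
  have hmul : (Proj (Gr N k)).presheaf.map (homOfLE (inf_le_left : D ≤ chart i₀)).op e *
      (Proj (Gr N k)).presheaf.map (homOfLE (inf_le_right : D ≤ _)).op (ratio (Gr N k) hm (X_mem i₀)) = 1 := by
    refine fval_ext _ fun z => ?_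
    rw [fval_mul, fval_one, fval_map, fval_map, fval_ratio]
    have he : fval (Gr N k) e ⟨z.1, z.2.1⟩ =
        ∑ j, (Localization.mk (C (a j)) 1 * Localization.mk (X j) ⟨X i₀, z.2.1⟩ : GrTwist.Loc (Gr N k) z.1) := by
      show fvalHom _ (Tango.ev i₀ a) = _
      simp only [Tango.ev, map_sum, map_mul]
      exact Finset.sum_congr rfl fun j _ => congrArg₂ (· * ·) (fval_constΓ_map _ _) (fval_tt _ _ _)
    have hsp : ∀ (q : MvPolynomial (Fin (N + 1)) k) (s : primeC z.1),
        (Localization.mk q s : GrTwist.Loc (Gr N k) z.1) = Localization.mk q 1 * Localization.mk 1 s := fun q s => by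
      rw [Localization.mk_mul, mul_one, one_mul]
    rw [he]
    simp only [Localization.mk_mul, one_mul]
    rw [Finset.sum_congr rfl (fun j _ => hsp (C (a j) * X j) _), ← Finset.sum_mul]
    simp only [Localization.mk_one_eq_algebraMap, ← map_sum]
    simp only [← Localization.mk_one_eq_algebraMap, Localization.mk_mul]
    refine (Localization.mk_eq_mk_iff.2 (Localization.r_iff_exists.2 ⟨1, ?_⟩)).trans
      (Localization.mk_self (1 : primeC z.1))
    simp
    ring
  have hu := (IsUnit.of_mul_eq_one _ hmul).map ((Proj (Gr N k)).presheaf.germ D x hD).hom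
  erw [TopCat.Presheaf.germ_res_apply] at hu
  exact hu

/-- A linear form pulling back to zero vanishes on the image. -/
theorem mem_of_pullback_form_eq_zero (i : Proj (Gr m k) ⟶ Proj (Gr N k)) (a : Fin (N + 1) → k)
    (h : (Scheme.Modules.pullback i).map (Tango.form a) = 0) (y : Proj (Gr m k)) :
    (∑ l, C (a l) * X l) ∈ (i.base y).asHomogeneousIdeal.toIdeal := by
  let x := i.base y
  obtain ⟨i₀, hx⟩ := H11Ample.exists_mem_basicOpen_X (n := N) (R := k) x
  let e : Γ(Proj (Gr N k), chart (R := k) i₀) := Tango.ev i₀ a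
  let g := (Od N k (-1)).presheaf.germ (chart i₀) x hx (genNeg i₀ le_rfl)
  let one := (Od N k 0).presheaf.germ (chart i₀) x hx (Tango.one0 (chart i₀))
  have hg' : Function.Bijective fun r : (Proj (Gr N k)).presheaf.stalk x => r • one :=
    Tango.bijective_germ_smul _ (fun V _ => Tango.bijective_smul_one0 V) hx
  let E : (Proj (Gr N k)).presheaf.stalk x := (Proj (Gr N k)).presheaf.germ (chart i₀) x hx e
  have h1 : stalkLin (Tango.form a) x g = E • one := by
    rw [stalkLin_germ, Tango.form_genNeg, germ_smul]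
  have h2 : H06Mod.pullStalk i (Od N k 0) y (stalkLin (Tango.form a) x g) = 0 := by
    refine (H06Mod.pullStalk_naturality i (Od N k (-1)) y (Tango.form a) g).symm.trans ?_
    show stalkLin ((Scheme.Modules.pullback i).map (Tango.form a)) y _ = 0
    rw [h, Tango.stalkLin_zero]
    rfl
  letI := H06Mod.stalkAlgebra i y
  let L : (Proj (Gr N k)).presheaf.stalk x ≃ₗ[(Proj (Gr N k)).presheaf.stalk x] (Od N k 0).presheaf.stalk x :=
    LinearEquiv.ofBijective (LinearMap.toSpanSingleton _ _ one) hg'
  have h3 : ((1 : (Proj (Gr m k)).presheaf.stalk y) ⊗ₜ[(Proj (Gr N k)).presheaf.stalk x] (L E) :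
      (Proj (Gr m k)).presheaf.stalk y ⊗[(Proj (Gr N k)).presheaf.stalk x] (Od N k 0).presheaf.stalk x) = 0 := by
    refine (H06Mod.pullStalkEquiv i (Od N k 0) y).injective ?_
    rw [map_zero]
    show H06Mod.pullStalkLin i (Od N k 0) y _ = 0
    rw [H06Mod.pullStalkLin_tmul, one_smul, show L E = stalkLin (Tango.form a) x g from h1.symm]
    exact h2
  have h4 : algebraMap ((Proj (Gr N k)).presheaf.stalk x) ((Proj (Gr m k)).presheaf.stalk y) E = 0 := by
    have h5 := congrArg (TensorProduct.rid ((Proj (Gr N k)).presheaf.stalk x) ((Proj (Gr m k)).presheaf.stalk y) ∘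
      LinearMap.lTensor ((Proj (Gr m k)).presheaf.stalk y) L.symm.toLinearMap) h3
    simpa [Algebra.algebraMap_eq_smul_one] using h5
  have hnu : ¬ IsUnit E := fun hu => not_isUnit_zero (M₀ := (Proj (Gr m k)).presheaf.stalk y) (h4 ▸ hu.map _)
  exact mem_of_not_isUnit_ev x i₀ hx a hnu

/-- A linear subspace of positive codimension lies in a hyperplane. -/
theorem exists_hyperplane_through {n : ℕ} (hm : m ≤ n) (i : Proj (Gr m k) ⟶ Proj (Gr (n + 1) k))
    (hi : i ≫ toS (n + 1) k = toS m k)
    (e₁ : (Scheme.Modules.pullback i).obj (Od (n + 1) k (-1)) ≅ Od m k (-1))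
    (e₀ : (Scheme.Modules.pullback i).obj (Od (n + 1) k 0) ≅ Od m k 0) :
    ∃ (a : Fin (n + 2) → k) (p : Fin (n + 2)), a p ≠ 0 ∧ ∀ y, (∑ l, C (a l) * X l) ∈ (i.base y).asHomogeneousIdeal.toIdeal := by
  let F := Scheme.Modules.pullback i
  choose c hc using fun l : Fin (n + 2) =>
    exists_linForm (n := m) (R := k) (e₁.inv ≫ F.map (mulX (R := k) l (-1) 0 rfl) ≫ e₀.hom)
  let A : (Fin (n + 2) → k) →ₗ[k] (Fin (m + 1) → k) := Fintype.linearCombination k c
  obtain ⟨a, haA, ha0⟩ : ∃ a, A a = 0 ∧ a ≠ 0 := by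
    by_contra h
    push Not at h
    have hinj : Function.Injective A := (injective_iff_map_eq_zero A).2 h
    have hle := LinearMap.finrank_le_finrank_of_injective hinj
    rw [Module.finrank_fin_fun, Module.finrank_fin_fun] at hle
    omega
  obtain ⟨p, hp⟩ : ∃ p, a p ≠ 0 := by
    by_contra h
    push Not at h
    exact ha0 (funext h)
  refine ⟨a, p, hp, mem_of_pullback_form_eq_zero i a ?_⟩
  haveI : F.Additive := by
    haveI : PreservesColimitsOfSize.{0, 0} F :=
      (Scheme.Modules.pullbackPushforwardAdjunction i).leftAdjoint_preservesColimits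
    exact Functor.additive_of_preserves_binary_products _
  have hconst : ∀ b : k, i.appTop (Coh.toGlobal (toS (n + 1) k) b) = Coh.toGlobal (toS m k) b := fun b => by
    show i.appTop ((toS (n + 1) k).appTop ((Scheme.ΓSpecIso (CommRingCat.of k)).inv b)) =
      (toS m k).appTop ((Scheme.ΓSpecIso (CommRingCat.of k)).inv b)
    rw [← hi, Scheme.Hom.comp_appTop]
    rfl
  have key : e₁.inv ≫ F.map (Tango.form a) ≫ e₀.hom = Tango.form (A a) := by
    rw [show A a = ∑ l, a l • c l from Fintype.linearCombination_apply _ _ _, Tango.form_sum, Tango.form,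
      Functor.map_sum, Preadditive.sum_comp, Preadditive.comp_sum]
    refine Finset.sum_congr rfl fun l _ => ?_
    have hl : Tango.form (c l) = e₁.inv ≫ F.map (mulX (R := k) l (-1) 0 rfl) ≫ e₀.hom := (hc l).symm
    rw [show a l • c l = fun j => a l * c l j from rfl, ← Tango.smul_form, hl, F.map_comp,
      H24Quot.pullback_map_smulModΓ, hconst, Category.assoc]
    rw [← Category.assoc e₁.inv, ← smulModΓ_natural, Category.assoc]
  rw [haA, show Tango.form (0 : Fin (m + 1) → k) = 0 by simp [Tango.form, smulModΓ_zero]] at key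
  exact (cancel_mono e₀.hom).1 (((cancel_epi e₁.inv).1 (key.trans comp_zero.symm)).trans zero_comp.symm)

end Groth.Agent.H02CA.VBPn
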