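import Groth.Agent.H02CA.VBPn.Factor
import Groth.Agent.H17.PnExt.Shape

/-!
# Factoring linear subspaces through hyperplanes
-/

set_option autoImplicit false
set_option linter.style.haveILetI false
universe u

open CategoryTheory CategoryTheory.Limits AlgebraicGeometry TopologicalSpace Opposite
open Groth.Agent

namespace Groth.Agent.H02CA.VBPn

variable {k : Type u} [Field k] {m n : ℕ}

/-- A linear subspace of positive codimension factors through a hyperplane. -/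
theorem exists_factor (hm : m ≤ n) (i : CohB1.ProjSpace m k ⟶ CohB1.ProjSpace (n + 1) k) [IsClosedImmersion i]
    (hi : i ≫ CohB1.ProjSpace.toSpec (n + 1) k = CohB1.ProjSpace.toSpec m k)
    (hO : Nonempty ((Scheme.Modules.pullback i).obj (Twist.twistProjSpace (n + 1) k 1) ≅ Twist.twistProjSpace m k 1)) :
    ∃ (a : Fin (n + 2) → k) (p : Fin (n + 2)) (j : CohB1.ProjSpace m k ⟶ CohB1.ProjSpace n k),
      a p ≠ 0 ∧ j ≫ H22Alg.HyperplanePn.emb a p = i ∧ IsClosedImmersion j ∧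
      j ≫ CohB1.ProjSpace.toSpec n k = CohB1.ProjSpace.toSpec m k ∧
      Nonempty ((Scheme.Modules.pullback j).obj (Twist.twistProjSpace n k 1) ≅ Twist.twistProjSpace m k 1) := by
  obtain ⟨e⟩ := hO
  obtain ⟨e₁⟩ := Euler.nonempty_pullback_neg_one i e
  obtain ⟨u⟩ := H11Ample.nonempty_pullback_structureModule_iso i
  obtain ⟨z'⟩ := (H10Coh.Stab.isTwistFamily_projSpace (n + 1) k).zero
  obtain ⟨z⟩ := (H10Coh.Stab.isTwistFamily_projSpace m k).zero
  let e₀ := (Scheme.Modules.pullback i).mapIso z' ≪≫ u ≪≫ z.symm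
  have key : ∀ (A₁ A₀ : (CohB1.ProjSpace (n + 1) k).Modules) (B₁ B₀ : (CohB1.ProjSpace m k).Modules),
      A₁ = H10Coh.Pn.Od (n + 1) k (-1) → A₀ = H10Coh.Pn.Od (n + 1) k 0 → B₁ = H10Coh.Pn.Od m k (-1) →
      B₀ = H10Coh.Pn.Od m k 0 → ((Scheme.Modules.pullback i).obj A₁ ≅ B₁) →
      ((Scheme.Modules.pullback i).obj A₀ ≅ B₀) →
      ∃ (a : Fin (n + 2) → k) (p : Fin (n + 2)), a p ≠ 0 ∧
        ∀ y, H22Alg.HyperplaneAlg.form a ∈ (i.base y).asHomogeneousIdeal.toIdeal := by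
    rintro A₁ A₀ B₁ B₀ rfl rfl rfl rfl f₁ f₀
    exact exists_hyperplane_through hm i hi f₁ f₀
  obtain ⟨a, p, hp, hy⟩ := key _ _ _ _ (H17.PnExt.od_eq _ k _) (H17.PnExt.od_eq _ k _) (H17.PnExt.od_eq _ k _)
    (H17.PnExt.od_eq _ k _) e₁ e₀
  haveI : IsIntegral (CohB1.ProjSpace m k) := LeadPic.PnRel.isIntegral_projSpace (n := m) k
  let emb : CohB1.ProjSpace n k ⟶ CohB1.ProjSpace (n + 1) k := H22Alg.HyperplanePn.emb a p
  haveI : IsClosedImmersion emb := H22Alg.HyperplanePn.isClosedImmersion_emb a p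
  obtain ⟨j, hj⟩ := H17.exists_lift_of_range_subset i emb
    (by rintro _ ⟨y, rfl⟩; exact mem_range_emb a p hp _ (hy y))
  haveI : IsClosedImmersion (j ≫ emb) := by rw [hj]; infer_instance
  obtain ⟨-, -, -, ⟨ee⟩⟩ := exists_cutting_section a p hp
  refine ⟨a, p, j, hp, hj, IsClosedImmersion.of_comp j emb, ?_, ⟨(Scheme.Modules.pullback j).mapIso ee.symm ≪≫
    (Scheme.Modules.pullbackComp j emb).app _ ≪≫ (Scheme.Modules.pullbackCongr hj).app _ ≪≫ e⟩⟩
  rw [← H22Alg.MumfordStep.emb_toSpec a p, ← hi, ← hj, Category.assoc]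
  rfl

end Groth.Agent.H02CA.VBPn
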