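import Groth.Agent.H02CA.VBPn.KerLine
import Groth.Agent.H06Mod.StalkExact
import Groth.Agent.H10Coh.FinType2
import Groth.Agent.H28Alg.RegularUFD
import Groth.Agent.H4Depth.Regular

/-!
# Kernels of degenerate endomorphisms of rank two bundles on regular schemes
-/

set_option autoImplicit false
set_option linter.style.haveILetI false
set_option backward.isDefEq.respectTransparency false
set_option maxHeartbeats 800000
universe u

open CategoryTheory CategoryTheory.Limits AlgebraicGeometry TopologicalSpace Opposite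
open Groth.Agent

namespace Groth.Agent.H02CA.VBPn

variable {X : Scheme.{u}}

/-- The kernel of a nonzero endomorphism of a rank two bundle killing a nonzero one is invertible. -/
theorem isInvertible_kernel [IsIntegral X] [IsLocallyNoetherian X]
    (hreg : ∀ x : X, IsRegularLocalRing (X.presheaf.stalk x)) {E : X.Modules} (hE : FlatMod.IsFinLocFreeOfRank 2 E)
    (ψ χ : E ⟶ E) (hψ : ψ ≠ 0) (hχ : χ ≠ 0) (h : χ ≫ ψ = 0) : PicF.IsInvertible (kernel ψ) := by
  have hEf : FlatMod.IsFinLocFree E := fun y =>
    let ⟨U, hy, he⟩ := hE y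
    ⟨U, 2, hy, he⟩
  have hEc := H16Derived.KFlat.Stalk.isCoh_of_isFinLocFree hEf
  have hEt := H25Par.isTorsionFree_of_locFree hEf
  have hK : Coh.IsCoh (kernel ψ) := H10Coh.isCoh_kernel ψ hEc hEc.1
  have key : ∀ x : X, Nonempty (Module.Basis (Fin 1) (X.presheaf.stalk x) ((kernel ψ).presheaf.stalk x)) := by
    intro x
    haveI := hreg x
    haveI := H4Depth.isDomain_of_isRegularLocalRing (X.presheaf.stalk x)
    haveI := H28Alg.ufd_of_regular (X.presheaf.stalk x)
    obtain ⟨hfree, hfin, hrk⟩ := H25Par.finrank_stalk hE x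
    haveI := hfree; haveI := hfin
    let f := H06Mod.stalkLin ψ x
    have hf : f ≠ 0 := stalkLin_ne_zero hEc.1 hEc.1 hEt hψ x
    have hk : LinearMap.ker f ≠ ⊥ := fun hb => by
      refine stalkLin_ne_zero hEc.1 hEc.1 hEt hχ x (LinearMap.ext fun v => ?_)
      have : H06Mod.stalkLin χ x v ∈ LinearMap.ker f := by
        rw [LinearMap.mem_ker]
        show H06Mod.stalkLin ψ x (H06Mod.stalkLin χ x v) = 0
        rw [← H29Omega.stalkLin_comp, h, Tango.stalkLin_zero]
        rfl
      rw [hb] at this
      exact this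
    obtain ⟨b⟩ := exists_ker_basis hrk f hf hk
    let S := ShortComplex.mk (kernel.ι ψ) (Abelian.factorThruImage ψ)
      (by rw [← cancel_mono (Abelian.image.ι ψ), Category.assoc, Abelian.image.fac, kernel.condition, zero_comp])
    have hS : S.ShortExact :=
      { exact := ShortComplex.exact_of_f_is_kernel _ (KernelFork.IsLimit.ofι' _ _ fun g hg =>
          ⟨kernel.lift ψ g (by rw [← Abelian.image.fac ψ, ← Category.assoc, hg, zero_comp]), kernel.lift_ι _ _ _⟩)
        epi_g := inferInstanceAs (Epi (Abelian.factorThruImage ψ)) }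
    have hinj := H06Mod.stalk_injective S hS x
    have himg : Function.Injective (H06Mod.stalkLin (Abelian.image.ι ψ) x) :=
      TopCat.Presheaf.stalkFunctor_map_injective_of_app_injective (f := (Abelian.image.ι ψ).mapPresheaf)
        (fun U => H10Coh.injective_app_of_mono' (Abelian.image.ι ψ) U) x
    have hrange : LinearMap.range (H06Mod.stalkLin (kernel.ι ψ) x) = LinearMap.ker f := by
      ext v
      have hfac : f v = H06Mod.stalkLin (Abelian.image.ι ψ) x (H06Mod.stalkLin S.g x v) := by
        rw [← H29Omega.stalkLin_comp]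
        show H06Mod.stalkLin ψ x v = H06Mod.stalkLin (Abelian.factorThruImage ψ ≫ Abelian.image.ι ψ) x v
        rw [Abelian.image.fac]
      rw [LinearMap.mem_ker, hfac, map_eq_zero_iff _ himg]
      exact (H06Mod.stalk_exact S hS x v).symm
    exact ⟨b.map ((LinearEquiv.ofInjective _ hinj).trans (LinearEquiv.ofEq _ _ hrange)).symm⟩
  intro x
  obtain ⟨U, hxU, hU⟩ := H8Props.FunDescent.isFreeOfRankNear_of_stalkFree_of_isFP (kernel ψ)
    (H10Coh.isFP_of_isCoh _ hK) (p := 1) (x := x) (key x)
  exact H29Ref.exists_iso_of_isFreeOfRankNear_one (kernel ψ) x ⟨U, hxU, hU⟩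

end Groth.Agent.H02CA.VBPn
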