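import Groth.Agent.H02CA.VBPn.FactorThrough
import Groth.Agent.S10829
import Groth.Agent.H4Conn.Top

/-!
# Dimensions of linear subspaces
-/

set_option autoImplicit false
set_option linter.style.haveILetI false
universe u

open CategoryTheory CategoryTheory.Limits AlgebraicGeometry TopologicalSpace Opposite
open Groth.Agent

namespace Groth.Agent.H02CA.VBPn

variable {k : Type u} [Field k] {m n : ℕ}

theorem le_of_isClosedImmersion (i : CohB1.ProjSpace m k ⟶ CohB1.ProjSpace n k) [IsClosedImmersion i] : m ≤ n := by
  have h := i.isClosedEmbedding.isInducing.topologicalKrullDim_le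
  rw [S10829.result, S10829.result] at h
  exact_mod_cast h

theorem isIso_of_isClosedImmersion (i : CohB1.ProjSpace n k ⟶ CohB1.ProjSpace n k) [IsClosedImmersion i] :
    IsIso i := by
  haveI : IsIntegral (CohB1.ProjSpace n k) := LeadPic.PnRel.isIntegral_projSpace (n := n) k
  haveI : Surjective i := by
    by_contra h
    have hne : Set.range i ≠ Set.univ := fun e => h ⟨Set.range_eq_univ.1 e⟩
    have h1 := H4Conn.topologicalKrullDim_add_one_le i.isClosedEmbedding.isClosed_range hne
    rw [S10829.result k n] at h1
    have h2 : topologicalKrullDim (CohB1.ProjSpace n k) ≤ topologicalKrullDim (Set.range i) :=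
      (Topology.IsEmbedding.toHomeomorph i.isClosedEmbedding.isEmbedding).isInducing.topologicalKrullDim_le
    rw [S10829.result k n] at h2
    have h3 : (n : WithBot ℕ∞) + 1 ≤ n := le_trans (add_le_add h2 le_rfl) h1
    have h4 : ((n + 1 : ℕ) : WithBot ℕ∞) ≤ (n : ℕ) := by push_cast; exact h3
    exact absurd (by exact_mod_cast h4 : n + 1 ≤ n) (by omega)
  exact AlgebraicGeometry.isIso_of_isClosedImmersion_of_surjective i

end Groth.Agent.H02CA.VBPn
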