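import Groth.Agent.H02CA.VBPn.Hyper
import Groth.Agent.H02CA.Euler.LinForms

/-!
# The sections of `O(1)` cutting out hyperplanes, as a linear family
-/

set_option autoImplicit false
set_option linter.style.haveILetI false
set_option backward.isDefEq.respectTransparency false
set_option maxHeartbeats 1600000
universe u

open CategoryTheory CategoryTheory.Limits AlgebraicGeometry TopologicalSpace Opposite MvPolynomial
open Groth.Agent Groth.Agent.H11Tilde Groth.Agent.H10Coh.Pn
open CohB1 (polyGrading)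

namespace Groth.Agent.H02CA.VBPn

open H22Alg

variable {k : Type u} [Field k] {n : ℕ}

local notation "L₁" => GrTwist.twist (polyGrading (n + 1) k) 1

/-- The section of `O(1)` with a given coefficient vector. -/
noncomputable def hypSec (a : Fin (n + 2) → k) :
    Coh.structureModule (Proj (polyGrading (n + 1) k)) ⟶ L₁ :=
  homOfGlobal L₁ (globalSec (polyGrading (n + 1) k) (form_mem a))

theorem form_add_smul (a b : Fin (n + 2) → k) (c : k) :
    HyperplaneAlg.form (b + c • a) = HyperplaneAlg.form b + C c * HyperplaneAlg.form a := by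
  simp only [HyperplaneAlg.form, Pi.add_apply, Pi.smul_apply, smul_eq_mul, map_add, map_mul, Finset.mul_sum,
    ← Finset.sum_add_distrib]
  exact Finset.sum_congr rfl fun t _ => by ring

theorem globalSec_form (a b : Fin (n + 2) → k) (c : k) :
    (globalSec (Gr (n + 1) k) (form_mem (b + c • a)) : Γ(Od (n + 1) k ((1 : ℕ) : ℤ), ⊤)) =
      globalSec (Gr (n + 1) k) (form_mem b) +
        (show Γ(Proj (Gr (n + 1) k), ⊤) from Coh.toGlobal (toS (n + 1) k) c) •
          (globalSec (Gr (n + 1) k) (form_mem a) : Γ(Od (n + 1) k ((1 : ℕ) : ℤ), ⊤)) := by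
  refine sval_ext _ _ fun y => ?_
  obtain ⟨i, hi⟩ := H11Ample.exists_mem_basicOpen_X (n := n + 1) (R := k) y.1
  rw [sval_add', sval_smul, show fval (Gr (n + 1) k) (show Γ(Proj (Gr (n + 1) k), ⊤) from Coh.toGlobal (toS (n + 1) k) c)
      ⟨y.1, trivial⟩ = Localization.mk (C c) 1 from
      fval_constΓ (Euler.X_mem (R := k) i) Nat.one_pos c ⟨y.1, hi⟩]
  show (Localization.mk (HyperplaneAlg.form (b + c • a)) ⟨1, _⟩ : GrTwist.Loc (Gr (n + 1) k) y.1) =
    Localization.mk (HyperplaneAlg.form b) ⟨1, _⟩ + Localization.mk (C c) 1 *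
      (Localization.mk (HyperplaneAlg.form a) ⟨1, _⟩ : GrTwist.Loc (Gr (n + 1) k) y.1)
  rw [form_add_smul]
  exact ((congrArg (_ + ·) (Localization.mk_mul _ _ _ _)).trans
    (by rw [one_mul]; exact (Localization.add_mk_self _ _ _))).symm

theorem hypSec_add_smul (a b : Fin (n + 2) → k) (c : k) :
    hypSec (b + c • a) = hypSec b + hypSec a ≫ Formal.smulModΓ L₁ (Coh.toGlobal (toS (n + 1) k) c) := by
  refine Scheme.Modules.hom_ext _ _ fun U => ?_
  ext r
  show (hypSec (b + c • a)).app U r =
    (hypSec b).app U r + (Formal.smulModΓ L₁ (Coh.toGlobal (toS (n + 1) k) c)).app U ((hypSec a).app U r)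
  unfold hypSec
  rw [homOfGlobal_app, homOfGlobal_app, homOfGlobal_app]
  erw [Euler.smulModΓ_app]
  erw [smul_comm]; erw [← smul_add]
  refine congrArg (_ • ·) ?_
  refine (congrArg ((Scheme.Modules.presheaf L₁).map (homOfLE (le_top : U ≤ ⊤)).op) (globalSec_form a b c)).trans ?_
  refine (map_add _ _ _).trans (congrArg (_ + ·) ?_)
  exact Scheme.Modules.map_smul _ _ _ _

theorem hypSec_cuts (a : Fin (n + 2) → k) (p : Fin (n + 2)) (hp : a p ≠ 0) :
    Mono (hypSec a) ∧ PicF2.zeroScheme L₁ (hypSec a) = (HyperplanePn.emb a p).ker := by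
  have hs0 : SecTwist.val (hypSec a) ⊤ = globalSec (polyGrading (n + 1) k) (form_mem a) := H11Ample.val_homOfGlobal _
  have hm0 := form_ne_zero hp
  refine ⟨?_, HyperplanePn.ker_emb (form_mem a) (hypSec a) hs0 a p hp rfl hm0⟩
  have hreg := HyperplanePn.regular (form_mem a) (hypSec a) hs0 hm0
  refine H11Tilde.mono_of_injective _ fun W t ht x hx => ?_
  obtain ⟨r, hr⟩ := (H11Ample.isGen_one (X := Proj (polyGrading (n + 1) k)) ⊤ x trivial).2
    ((Coh.structureModule (Proj (polyGrading (n + 1) k))).presheaf.germ W x hx t)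
  have h1 := H06Mod.stalkLin_germ (hypSec a) x W hx t
  rw [ht, map_zero, ← show _ = (Coh.structureModule (Proj (polyGrading (n + 1) k))).presheaf.germ W x hx t from hr,
    map_smul, H06Mod.stalkLin_germ] at h1
  have h0 : r = 0 := hreg x (h1.trans (zero_smul _ _).symm)
  replace hr : r • _ = (Coh.structureModule (Proj (polyGrading (n + 1) k))).presheaf.germ W x hx t := hr
  rw [h0, zero_smul] at hr
  obtain ⟨V, hxV, iV, iW, hV⟩ := (Coh.structureModule (Proj (polyGrading (n + 1) k))).presheaf.germ_eq x hx hx t 0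
    (hr.symm.trans (map_zero _).symm)
  exact ⟨V, iV.le, hxV, hV.trans (map_zero _)⟩

end Groth.Agent.H02CA.VBPn
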