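import Groth.Agent.H02CA.VBPn.Split
import Groth.Agent.H02CA.VBPn.LinDim
import Groth.Agent.H25Index.Ample

/-!
# Cohomology of bundles and restriction to linear subspaces
-/

set_option autoImplicit false
set_option linter.style.haveILetI false
set_option maxHeartbeats 1600000
universe u

open CategoryTheory CategoryTheory.Limits AlgebraicGeometry
open Groth.Agent

namespace Groth.Agent.H02CA.VBPn

attribute [local instance 10000] H10Coh.hasSheafifyAb H10Coh.hasWeakSheafifyAb H10Coh.hasExtAb H10Coh.enoughInjAb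

open H22Alg

variable {k : Type u} [Field k]

/-- Vanishing transfers along linear automorphisms. -/
theorem subsingleton_of_isIso {n : ℕ} (i : CohB1.ProjSpace n k ⟶ CohB1.ProjSpace n k) [IsIso i]
    (hO : Nonempty ((Scheme.Modules.pullback i).obj (Twist.twistProjSpace n k 1) ≅ Twist.twistProjSpace n k 1))
    {E : (CohB1.ProjSpace n k).Modules} (hE : FlatMod.IsFinLocFree E) (q : ℕ) (d : ℤ)
    (h : Subsingleton (Coh.HH (CohB1.ProjSpace n k)
      (CohB1.tensorMod ((Scheme.Modules.pullback i).obj E) (Twist.twistProjSpace n k d)) q)) :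
    Subsingleton (Coh.HH (CohB1.ProjSpace n k) (CohB1.tensorMod E (Twist.twistProjSpace n k d)) q) := by
  haveI := CMHyper.noetherian k n
  obtain ⟨eO⟩ := hO
  have hT := H10Coh.Stab.isTwistFamily_projSpace n k
  obtain ⟨τ⟩ := MumfordStep.fam_unique (hT.pullback i) hT eO d
  let F := (Scheme.Modules.pullback i).obj (CohB1.tensorMod E (Twist.twistProjSpace n k d))
  let w : F ≅ CohB1.tensorMod ((Scheme.Modules.pullback i).obj E) (Twist.twistProjSpace n k d) :=
    (H16Derived.KFlat.Stalk.pullTensorLIso i (Twist.twistProjSpace n k d)).app E ≪≫ PicGrp.tensorModIso (Iso.refl _) τ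
  have hEF := H16Derived.KFlat.Stalk.isFinLocFree_tensor hE (H28Pinch.isFinLocFree_of_isInvertible (hT.inv d))
  have hF : Subsingleton (Coh.HH (CohB1.ProjSpace n k) F q) := H10Coh.subsingleton_HH_of_iso w.symm q h
  haveI hq1 : F.IsQuasicoherent := (H17.ConsProp.isCoh_pullback i (H10Coh.Tw.isCoh_of_vb hEF)).1
  haveI : ((Scheme.Modules.pullback (inv i)).obj F).IsQuasicoherent :=
    (H17.ConsProp.isCoh_pullback (inv i) (H17.ConsProp.isCoh_pullback i (H10Coh.Tw.isCoh_of_vb hEF))).1
  refine H10Coh.subsingleton_HH_of_iso ((Scheme.Modules.pullbackComp (inv i) i).app _ ≪≫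
      (Scheme.Modules.pullbackCongr (IsIso.inv_hom_id i)).app _ ≪≫ (Scheme.Modules.pullbackId _).app _) q ?_
  exact H25Index.subsingleton_HH_pullback (asIso i).symm F q hF

/-- No intermediate cohomology if there is none on a linear subspace of dimension at least two. -/
theorem noMid_of_linear {m : ℕ} (hm : 2 ≤ m) : ∀ (n : ℕ) (E : (CohB1.ProjSpace n k).Modules)
    (i : CohB1.ProjSpace m k ⟶ CohB1.ProjSpace n k), IsClosedImmersion i →
    i ≫ CohB1.ProjSpace.toSpec n k = CohB1.ProjSpace.toSpec m k →
    Nonempty ((Scheme.Modules.pullback i).obj (Twist.twistProjSpace n k 1) ≅ Twist.twistProjSpace m k 1) →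
    FlatMod.IsFinLocFree E → NoMid m ((Scheme.Modules.pullback i).obj E) → NoMid n E := by
  intro n
  induction n with
  | zero =>
    intro E i hc _ _ _ _
    have := @le_of_isClosedImmersion _ _ _ _ i hc
    omega
  | succ n ih =>
    intro E i hc hi hO hE h
    obtain hmn | rfl : m ≤ n ∨ m = n + 1 := by
      have := @le_of_isClosedImmersion _ _ _ _ i hc
      omega
    · haveI := hc
      obtain ⟨a, p, j, hp, hj, hjc, hj1, hj2⟩ := exists_factor hmn i hi hO
      refine noMid_of_hyperplane (by omega) a p hp hE (ih _ j hjc hj1 hj2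
        (H16Derived.KFlat.Stalk.isFinLocFree_pullback _ hE) fun q d hq hqm => ?_)
      exact H10Coh.subsingleton_HH_of_iso (PicGrp.tensorModIso
        ((Scheme.Modules.pullbackComp j _).app E ≪≫ (Scheme.Modules.pullbackCongr hj).app E).symm (Iso.refl _))
        q (h q d hq hqm)
    · haveI := hc
      haveI := isIso_of_isClosedImmersion i
      exact fun q d hq hqm => subsingleton_of_isIso i hO hE q d (h q d hq hqm)

/-- Negative twists have no sections if this holds on a linear subspace. -/
theorem h0_neg_of_linear {m : ℕ} (hm : 1 ≤ m) : ∀ (n : ℕ) (E : (CohB1.ProjSpace n k).Modules)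
    (i : CohB1.ProjSpace m k ⟶ CohB1.ProjSpace n k), IsClosedImmersion i →
    i ≫ CohB1.ProjSpace.toSpec n k = CohB1.ProjSpace.toSpec m k →
    Nonempty ((Scheme.Modules.pullback i).obj (Twist.twistProjSpace n k 1) ≅ Twist.twistProjSpace m k 1) →
    FlatMod.IsFinLocFree E → ∀ D : ℤ,
    (∀ d ≤ D, Subsingleton (Coh.HH (CohB1.ProjSpace m k)
      (CohB1.tensorMod ((Scheme.Modules.pullback i).obj E) (Twist.twistProjSpace m k d)) 0)) →
    ∀ d ≤ D, Subsingleton (Coh.HH (CohB1.ProjSpace n k) (CohB1.tensorMod E (Twist.twistProjSpace n k d)) 0) := by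
  intro n
  induction n with
  | zero =>
    intro E i hc _ _ _ _ _
    have := @le_of_isClosedImmersion _ _ _ _ i hc
    omega
  | succ n ih =>
    intro E i hc hi hO hE D h
    obtain hmn | rfl : m ≤ n ∨ m = n + 1 := by
      have := @le_of_isClosedImmersion _ _ _ _ i hc
      omega
    · haveI := hc
      obtain ⟨a, p, j, hp, hj, hjc, hj1, hj2⟩ := exists_factor hmn i hi hO
      have hH := ih _ j hjc hj1 hj2 (H16Derived.KFlat.Stalk.isFinLocFree_pullback (HyperplanePn.emb a p) hE) D
        fun d hd => H10Coh.subsingleton_HH_of_iso (PicGrp.tensorModIso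
          ((Scheme.Modules.pullbackComp j _).app E ≪≫ (Scheme.Modules.pullbackCongr hj).app E).symm (Iso.refl _))
          0 (h d hd)
      exact fun d hd => subsingleton_of_hyperplane a p hp hE (by omega) fun l hl => hH l (hl.trans hd)
    · haveI := hc
      haveI := isIso_of_isClosedImmersion i
      exact fun d hd => subsingleton_of_isIso i hO hE 0 d (h d hd)

end Groth.Agent.H02CA.VBPn
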