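import Groth.Agent.H02CA.VBPn.Extend
import Groth.Agent.H02CA.VBPn.NullCorr
import Groth.Agent.H17.PnExt.Main

/-!
# The cokernel of `O(-1) → Ω(1)` is simple
-/

set_option autoImplicit false
set_option linter.style.haveILetI false
set_option backward.isDefEq.respectTransparency false
set_option maxHeartbeats 1600000
universe u

open CategoryTheory CategoryTheory.Limits AlgebraicGeometry TopologicalSpace Opposite
open Groth.Agent.H11Tilde Groth.Agent.H10Coh.Pn

namespace Groth.Agent.H02CA.VBPn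

attribute [local instance] H29RR.PnPic.overSpec
attribute [local instance 10000] H10Coh.hasSheafifyAb H10Coh.hasWeakSheafifyAb H10Coh.hasExtAb H10Coh.enoughInjAb

open Euler H29RR

variable {k : Type u} [Field k] {n : ℕ}

/-- Maps from `Ω` to the cokernel of `O(-2) → Ω` are multiples of the projection. -/
theorem exists_scalar_hom {Ω : (Proj (Gr n k)).Modules} (d : OmegaSh.Der (CohB1.ProjSpace.toSpec n k) Ω)
    (hd : OmegaSh.IsUniversal d) {S : ShortComplex (Proj (Gr n k)).Modules} (hS : S.ShortExact)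
    (i₂ : S.X₂ ≅ Ω) (i₁ : S.X₁ ≅ Od n k (-2)) (ψ : Ω ⟶ S.X₃) :
    ∃ c : k, ψ = Formal.smulModΓ Ω (Coh.toGlobal (toS n k) c) ≫ i₂.inv ≫ S.g := by
  haveI := hS.mono_f
  haveI := hS.epi_g
  haveI : Mono (eulerι d hd) := mono_eulerι d hd
  have hE := shortExact_euler d hd
  have hT := H10Coh.Stab.isTwistFamily_projSpace n k
  let π : Ω ⟶ S.X₃ := i₂.inv ≫ S.g
  haveI : Epi π := epi_comp _ _
  let v : S.X₁ ⟶ ∐ fun _ : Fin (n + 1) => Od n k (-1) := (S.f ≫ i₂.hom) ≫ eulerι d hd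
  haveI : Mono v := mono_comp _ _
  have hv : (ShortComplex.mk v (cokernel.π v) (cokernel.condition v)).ShortExact :=
    { exact := ShortComplex.exact_cokernel _ }
  have hfv : S.f ≫ (i₂.hom ≫ eulerι d hd ≫ cokernel.π v) = 0 := by
    rw [← cokernel.condition v]
    simp [v]
  let j : S.X₃ ⟶ cokernel v := hS.exact.desc (i₂.hom ≫ eulerι d hd ≫ cokernel.π v) hfv
  have hj : π ≫ j = eulerι d hd ≫ cokernel.π v := by
    show (i₂.inv ≫ S.g) ≫ j = _
    rw [Category.assoc, hS.exact.g_desc, i₂.inv_hom_id_assoc]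
  have hvπ : v ≫ eulerπ = 0 := by
    show ((S.f ≫ i₂.hom) ≫ eulerι d hd) ≫ eulerπ = 0
    rw [Category.assoc, eulerι_π, comp_zero]
  let p : cokernel v ⟶ Od n k 0 := cokernel.desc v eulerπ hvπ
  have hjp : j ≫ p = 0 := by
    rw [← cancel_epi π, comp_zero, ← Category.assoc, hj, Category.assoc, cokernel.π_desc, eulerι_π]
  haveI : Mono j := by
    refine Preadditive.mono_of_cancel_zero _ fun {A} x hx => ?_
    have hsnd : pullback.fst x π ≫ x = pullback.snd x π ≫ π := pullback.condition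
    refine (cancel_epi (pullback.fst x π)).1 ?_
    rw [comp_zero, hsnd]
    have h0 : (pullback.snd x π ≫ eulerι d hd) ≫ cokernel.π v = 0 := by
      rw [Category.assoc, ← hj, ← Category.assoc, ← hsnd, Category.assoc, hx, comp_zero]
    have hw : hv.exact.lift _ h0 ≫ v = pullback.snd x π ≫ eulerι d hd := hv.exact.lift_f _ h0
    have hw' : pullback.snd x π = hv.exact.lift _ h0 ≫ S.f ≫ i₂.hom := by
      refine (cancel_mono (eulerι d hd)).1 (hw.symm.trans ?_)
      simp [v]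
    rw [hw']
    simp [π]
  -- cohomology of the cokernel
  obtain ⟨e0⟩ := hT.zero
  obtain ⟨e00⟩ := hT.add 0 0
  let eu : CohB1.tensorMod (Od n k 0) (Od n k 0) ≅ Coh.structureModule _ :=
    e00 ≪≫ eqToIso (congrArg _ (add_zero (0 : ℤ))) ≪≫ e0
  have hQ1 : Subsingleton (Coh.HH _ (cokernel v) 1) :=
    subsingleton_HH_right k hv 1
      (H17.PnExt.subsingleton_HH_sigma (k := k) _ 1 fun _ => subsingleton_HH_Od 1 (by omega) (by omega))
      (H10Coh.subsingleton_HH_of_iso i₁.symm (1 + 1) (subsingleton_HH_Od (1 + 1) (by omega) (by omega)))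
  let eQ : CohB1.tensorMod (cokernel v) (Od n k 0) ≅ cokernel v :=
    PicGrp.tensorModIso (Iso.refl _) e0 ≪≫ SecTwist.unitorR _
  obtain ⟨g, hg⟩ : ∃ g : (∐ fun _ : Fin (n + 1) => Od n k (-1)) ⟶ cokernel v, eulerι d hd ≫ g = ψ ≫ j :=
    exists_extend_of_h1 k (S := eulerComplex d hd) hE (hT.inv 0) eu
      (H10Coh.subsingleton_HH_of_iso eQ.symm 1 hQ1) (ψ ≫ j)
  -- lift to a matrix
  obtain ⟨e11⟩ := hT.add (-1) 1
  obtain ⟨e21⟩ := hT.add (-2) 1
  have h1 : Subsingleton (Coh.HH _ (CohB1.tensorMod S.X₁ (Od n k 1)) 1) :=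
    H10Coh.subsingleton_HH_of_iso
      (PicGrp.tensorModIso i₁ (Iso.refl _) ≪≫ e21 ≪≫ eqToIso (congrArg _ (show (-2 : ℤ) + 1 = -1 by norm_num))).symm 1
      (subsingleton_HH_Od 1 (by omega) (by omega))
  have hlift : ∀ l : Fin (n + 1), ∃ a : Od n k (-1) ⟶ ∐ fun _ : Fin (n + 1) => Od n k (-1),
      a ≫ cokernel.π v = Sigma.ι (fun _ : Fin (n + 1) => Od n k (-1)) l ≫ g := fun l =>
    exists_lift_of_h1 k hv (hT.inv 1) (e11 ≪≫ eqToIso (congrArg _ (neg_add_cancel (1 : ℤ))) ≪≫ e0) h1 _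
  choose A hA using hlift
  have hAg : Sigma.desc A ≫ cokernel.π v = g := Sigma.hom_ext _ _ fun l => by
    rw [Sigma.ι_desc_assoc]
    exact hA l
  have hΦ : (eulerι d hd ≫ Sigma.desc A) ≫ eulerπ = 0 := by
    rw [show eulerπ = cokernel.π v ≫ p from (cokernel.π_desc _ _ _).symm, Category.assoc,
      ← Category.assoc (Sigma.desc A), hAg, ← Category.assoc, hg, Category.assoc, hjp, comp_zero]
  haveI : Mono (eulerComplex d hd).f := hE.mono_f
  let Φ : Ω ⟶ Ω := hE.exact.lift (eulerι d hd ≫ Sigma.desc A) hΦ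
  have hΦι : Φ ≫ eulerι d hd = eulerι d hd ≫ Sigma.desc A := hE.exact.lift_f _ hΦ
  obtain ⟨c, hc⟩ := exists_scalar d hd Φ
  refine ⟨c, (cancel_mono j).1 ?_⟩
  rw [← hg, ← hAg, ← Category.assoc, ← hΦι, Category.assoc, ← hj, ← hc]
  simp only [π, Category.assoc]

/-- A map into the cokernel of `O(-2) → Ω` induced from `Ω` is induced by a scalar. -/
theorem exists_scalar_untwisted {Ω : (Proj (Gr n k)).Modules} (d : OmegaSh.Der (CohB1.ProjSpace.toSpec n k) Ω)
    (hd : OmegaSh.IsUniversal d) {S : ShortComplex (Proj (Gr n k)).Modules} (hS : S.ShortExact)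
    (i₂ : S.X₂ ≅ Ω) (i₁ : S.X₁ ≅ Od n k (-2)) (χ : S.X₃ ⟶ S.X₃) :
    ∃ c : k, χ = Formal.smulModΓ S.X₃ (Coh.toGlobal (toS n k) c) := by
  haveI := hS.epi_g
  obtain ⟨c, hc⟩ := exists_scalar_hom d hd hS i₂ i₁ ((i₂.inv ≫ S.g) ≫ χ)
  haveI : Epi (i₂.inv ≫ S.g) := epi_comp _ _
  exact ⟨c, (cancel_epi (i₂.inv ≫ S.g)).1 (hc.trans (smulModΓ_natural _ _))⟩

/-- The cokernel of a monomorphism `O(-1) → Ω(1)` is simple. -/
theorem exists_scalar_coker [QuasiSeparated (CohB1.ProjSpace.toSpec n k)]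
    (u : Twist.twistProjSpace n k (-1) ⟶
      CohB1.tensorMod (Omega.sheaf (CohB1.ProjSpace.toSpec n k)) (Twist.twistProjSpace n k 1))
    [Mono u] (φ : cokernel u ⟶ cokernel u) :
    ∃ c : k, φ = Formal.smulModΓ (cokernel u) (Coh.toGlobal (CohB1.ProjSpace.toSpec n k) c) := by
  have hT := H10Coh.Stab.isTwistFamily_projSpace n k
  obtain ⟨e₀⟩ := hT.zero
  obtain ⟨e₁⟩ := hT.add 1 (-1)
  obtain ⟨e₂⟩ := hT.add (-1) (-1)
  let e : CohB1.tensorMod (Twist.twistProjSpace n k 1) (Twist.twistProjSpace n k (-1)) ≅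
      Coh.structureModule (CohB1.ProjSpace n k) :=
    e₁ ≪≫ eqToIso (congrArg _ (add_neg_cancel (1 : ℤ))) ≪≫ e₀
  have hS : (ShortComplex.mk u (cokernel.π u) (cokernel.condition u)).ShortExact :=
    { exact := ShortComplex.exact_cokernel _ }
  have hS' := H16Derived.KFlat.Stalk.isFlatObj_of_isFlat (H16Derived.KFlat.Stalk.isFlat_of_isFinLocFree
    (H28Pinch.isFinLocFree_of_isInvertible (hT.inv (-1)))) _ hS
  obtain ⟨c, hc⟩ := exists_scalar_untwisted (OmegaSh.dOmega (CohB1.ProjSpace.toSpec n k))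
    (H17.PrinOmega.isUniversal_dOmega _) hS' ((twistInv e).app (Omega.sheaf (CohB1.ProjSpace.toSpec n k)))
    (e₂ ≪≫ eqToIso (congrArg _ (show (-1 : ℤ) + -1 = -2 by norm_num)))
    ((twist (Twist.twistProjSpace n k (-1))).map φ)
  refine ⟨c, sub_eq_zero.1 (twist_map_eq_zero (hT.inv (-1)) ?_)⟩
  rw [Functor.map_sub, sub_eq_zero, twist_map_smulModΓ]
  exact hc

/-- Maps `Ω(1) → coker (a : O(-1) → Ω(1))` are multiples of the projection. -/
theorem exists_scalar_hom_coker [QuasiSeparated (CohB1.ProjSpace.toSpec n k)]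
    (a : Twist.twistProjSpace n k (-1) ⟶
      CohB1.tensorMod (Omega.sheaf (CohB1.ProjSpace.toSpec n k)) (Twist.twistProjSpace n k 1))
    [Mono a] (ψ : CohB1.tensorMod (Omega.sheaf (CohB1.ProjSpace.toSpec n k)) (Twist.twistProjSpace n k 1) ⟶ cokernel a) :
    ∃ c : k, ψ = Formal.smulModΓ _ (Coh.toGlobal (CohB1.ProjSpace.toSpec n k) c) ≫ cokernel.π a := by
  have hT := H10Coh.Stab.isTwistFamily_projSpace n k
  obtain ⟨e₀⟩ := hT.zero
  obtain ⟨e₁⟩ := hT.add 1 (-1)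
  obtain ⟨e₂⟩ := hT.add (-1) (-1)
  let e : CohB1.tensorMod (Twist.twistProjSpace n k 1) (Twist.twistProjSpace n k (-1)) ≅
      Coh.structureModule (CohB1.ProjSpace n k) :=
    e₁ ≪≫ eqToIso (congrArg _ (add_neg_cancel (1 : ℤ))) ≪≫ e₀
  have hS : (ShortComplex.mk a (cokernel.π a) (cokernel.condition a)).ShortExact :=
    { exact := ShortComplex.exact_cokernel _ }
  have hS' := H16Derived.KFlat.Stalk.isFlatObj_of_isFlat (H16Derived.KFlat.Stalk.isFlat_of_isFinLocFree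
    (H28Pinch.isFinLocFree_of_isInvertible (hT.inv (-1)))) _ hS
  let I := (twistInv e).app (Omega.sheaf (CohB1.ProjSpace.toSpec n k))
  let T := twist (Twist.twistProjSpace n k (-1))
  obtain ⟨c, hc⟩ := exists_scalar_hom (OmegaSh.dOmega (CohB1.ProjSpace.toSpec n k))
    (H17.PrinOmega.isUniversal_dOmega _) hS' I (e₂ ≪≫ eqToIso (congrArg _ (show (-1 : ℤ) + -1 = -2 by norm_num)))
    (I.inv ≫ T.map ψ)
  refine ⟨c, sub_eq_zero.1 (twist_map_eq_zero (hT.inv (-1)) ?_)⟩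
  show T.map _ = 0
  rw [Functor.map_sub, sub_eq_zero, Functor.map_comp]
  refine (cancel_epi I.inv).1 (hc.trans ?_)
  rw [← Category.assoc, smulModΓ_natural, Category.assoc]
  exact congrArg (fun z => I.inv ≫ z ≫ T.map (cokernel.π a)) (twist_map_smulModΓ _ _ _).symm

end Groth.Agent.H02CA.VBPn
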