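import Groth.Agent.H02CA.VBPn.Resolution

/-!
# Resolutions of normalised bundles on the plane
-/

set_option autoImplicit false
set_option linter.style.haveILetI false
set_option backward.isDefEq.respectTransparency false
set_option maxHeartbeats 1600000
universe u

open CategoryTheory CategoryTheory.Limits AlgebraicGeometry
open Groth.Agent

namespace Groth.Agent.H02CA.VBPn

attribute [local instance 10000] H10Coh.hasSheafifyAb H10Coh.hasWeakSheafifyAb H10Coh.hasExtAb H10Coh.enoughInjAb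

open H22Alg

variable {k : Type u} [Field k] {n : ℕ}

/-- Vanishing of sections descends to smaller twists. -/
theorem h0_twist_mono {E : (CohB1.ProjSpace (n + 1) k).Modules} (hE : FlatMod.IsFinLocFree E) (c : ℤ)
    (h : Subsingleton (Coh.HH (CohB1.ProjSpace (n + 1) k) (CohB1.tensorMod E (Twist.twistProjSpace (n + 1) k c)) 0)) :
    ∀ t : ℕ, Subsingleton (Coh.HH (CohB1.ProjSpace (n + 1) k)
      (CohB1.tensorMod E (Twist.twistProjSpace (n + 1) k (c - t))) 0) := by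
  intro t
  induction t with
  | zero => simpa using h
  | succ t ih =>
    obtain ⟨S, hS, ⟨e₁⟩, ⟨e₂⟩, -⟩ := exists_seq (fun _ => (1 : k)) 0 one_ne_zero hE (c - t)
    rw [show c - (t : ℤ) - 1 = c - ((t + 1 : ℕ) : ℤ) by push_cast; ring] at e₁
    refine H10Coh.subsingleton_HH_of_iso e₁ 0 ?_
    exact @h0_injective_of_mono k _ (n + 1) S.X₁ S.X₂ S.f hS.mono_f (H10Coh.subsingleton_HH_of_iso e₂.symm 0 ih)

theorem exists_resolution_family [IsAlgClosed k] (hn : n + 1 = 2) (L : ℤ → (CohB1.ProjSpace (n + 1) k).Modules)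
    (hL : ∀ c, L c = H10Coh.Pn.Od (n + 1) k c) (F : (CohB1.ProjSpace (n + 1) k).Modules) (hF : FlatMod.IsFinLocFree F)
    (h0 : ∀ j : ℤ, j ≤ 0 → Subsingleton (Coh.HH (CohB1.ProjSpace (n + 1) k) (CohB1.tensorMod F (L j)) 0)) :
    ∃ (r s : ℕ) (kk : Fin r → ℤ) (mm : Fin s → ℤ) (S : ShortComplex (CohB1.ProjSpace (n + 1) k).Modules),
      S.ShortExact ∧ (∀ i, kk i < 0) ∧ (∀ j, mm j < 0) ∧ Nonempty (S.X₁ ≅ ∐ fun i : Fin r => L (kk i)) ∧
      Nonempty (S.X₂ ≅ ∐ fun j : Fin s => L (mm j)) ∧ Nonempty (S.X₃ ≅ F) := by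
  obtain rfl : L = fun c => H10Coh.Pn.Od (n + 1) k c := funext hL
  exact exists_resolution (d := n + 1) hn hF fun j hj => (H17.Horrocks.van_swap_iff F j 0).1 (h0 j hj)

theorem h0_of_twist {E : (CohB1.ProjSpace (n + 1) k).Modules} (hE : FlatMod.IsFinLocFree E) (c₀ : ℤ)
    (hss : Subsingleton (Coh.HH (CohB1.ProjSpace (n + 1) k) (CohB1.tensorMod E (Twist.twistProjSpace (n + 1) k c₀)) 0))
    (hc₀ : c₀ = -1) (j : ℤ) (hj : j ≤ 0) :
    Subsingleton (Coh.HH (CohB1.ProjSpace (n + 1) k) (CohB1.tensorMod (CohB1.tensorMod E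
      (Twist.twistProjSpace (n + 1) k c₀)) (Twist.twistProjSpace (n + 1) k j)) 0) := by
  obtain ⟨t⟩ := (H10Coh.Stab.isTwistFamily_projSpace (n + 1) k).add c₀ j
  refine H10Coh.subsingleton_HH_of_iso (H10Coh.Tw.assoc E _ _ ≪≫ PicGrp.tensorModIso (Iso.refl E) t).symm 0 ?_
  have h := h0_twist_mono hE c₀ hss (-j).toNat
  rwa [show c₀ - ((-j).toNat : ℕ) = c₀ + j by omega] at h

theorem exists_resolution_twist [IsAlgClosed k] (hn : n + 1 = 2) (c₀ : ℤ) (hc₀ : c₀ = -1) {E : (CohB1.ProjSpace (n + 1) k).Modules} (hE : FlatMod.IsFinLocFree E)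
    (hss : Subsingleton (Coh.HH (CohB1.ProjSpace (n + 1) k) (CohB1.tensorMod E (Twist.twistProjSpace (n + 1) k c₀)) 0)) :
    ∃ (r s : ℕ) (kk : Fin r → ℤ) (mm : Fin s → ℤ) (S : ShortComplex (CohB1.ProjSpace (n + 1) k).Modules),
      S.ShortExact ∧ (∀ i, kk i < 0) ∧ (∀ j, mm j < 0) ∧
      Nonempty (S.X₁ ≅ ∐ fun i : Fin r => Twist.twistProjSpace (n + 1) k (kk i)) ∧
      Nonempty (S.X₂ ≅ ∐ fun j : Fin s => Twist.twistProjSpace (n + 1) k (mm j)) ∧
      Nonempty (S.X₃ ≅ CohB1.tensorMod E (Twist.twistProjSpace (n + 1) k c₀)) := by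
  have hT := H10Coh.Stab.isTwistFamily_projSpace (n + 1) k
  have hinv : PicF.IsInvertible (Twist.twistProjSpace (n + 1) k c₀) := hT.inv c₀
  have hF := H16Derived.KFlat.Stalk.isFinLocFree_tensor hE (H28Pinch.isFinLocFree_of_isInvertible hinv)
  have hL : ∀ c, Twist.twistProjSpace (n + 1) k c = H10Coh.Pn.Od (n + 1) k c := fun c => H17.PnExt.od_eq (n + 1) k c
  exact exists_resolution_family hn (fun c => Twist.twistProjSpace (n + 1) k c) hL _ hF (h0_of_twist hE c₀ hss hc₀)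

end Groth.Agent.H02CA.VBPn
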