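import Groth.Agent.H22Alg.ExtPowHom
import Groth.Agent.H26Base.DualExt
import Groth.Agent.H02CA.Euler.EndTwist
import Groth.Agent.H10Coh.FinType2

/-!
# Wedging with a section of a rank two bundle
-/

set_option autoImplicit false
set_option linter.style.haveILetI false
set_option backward.isDefEq.respectTransparency false
set_option maxHeartbeats 800000
universe u

open CategoryTheory CategoryTheory.Limits AlgebraicGeometry TopologicalSpace Opposite exteriorPower
open Groth.Agent

namespace Groth.Agent.H02CA.VBPn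

variable {X : Scheme.{u}}

/-- Wedging with a global section. -/
theorem exists_wedge {E L : X.Modules} (hL : ExtPow.IsExtPow 2 E L) (s : Γ(E, ⊤)) :
    ∃ (φ : ∀ U : X.affineOpens, Γ(L, U.1) ≃ₗ[Γ(X, U.1)] ↥(⋀[Γ(X, U.1)]^2 Γ(E, U.1))) (w : E ⟶ L),
      ∀ (U : X.affineOpens) (v : Γ(E, U.1)), φ U (w.app U.1 v) =
        ιMulti Γ(X, U.1) 2 ![E.presheaf.map (homOfLE (le_top : U.1 ≤ ⊤)).op s, v] := by
  obtain ⟨φ₀, hφ₀⟩ := hL
  let φ : ∀ U : X.affineOpens, Γ(L, U.1) ≃ₗ[Γ(X, U.1)] ↥(⋀[Γ(X, U.1)]^2 Γ(E, U.1)) := fun U => φ₀ U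
  have hφ : ∀ (U V : X.affineOpens) (h : V.1 ≤ U.1) (e : Fin 2 → Γ(E, U.1)),
      L.presheaf.map (homOfLE h).op ((φ U).symm (ιMulti _ 2 e)) =
        (φ V).symm (ιMulti _ 2 fun j => E.presheaf.map (homOfLE h).op (e j)) := hφ₀
  let f : ∀ U : X.affineOpens, Γ(E, U.1) →ₗ[Γ(X, U.1)] Γ(L, U.1) := fun U => (φ U).symm.toLinearMap ∘ₗ
    (ιMulti Γ(X, U.1) 2).toMultilinearMap.toLinearMap ![E.presheaf.map (homOfLE (le_top : U.1 ≤ ⊤)).op s, 0] 1
  have hf : ∀ (U : X.affineOpens) (v : Γ(E, U.1)), f U v = (φ U).symm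
      (ιMulti Γ(X, U.1) 2 ![E.presheaf.map (homOfLE (le_top : U.1 ≤ ⊤)).op s, v]) := fun U v => by
    refine congrArg (fun m => (φ U).symm (ιMulti Γ(X, U.1) 2 m)) ?_
    ext i; fin_cases i <;> simp [Function.update]
  obtain ⟨w, hw⟩ := H17.AffHom.exists_hom f (fun U V h x => by
    rw [hf, hf, hφ U V h]
    refine congrArg (fun m => (φ V).symm (ιMulti Γ(X, V.1) 2 m)) ?_
    ext i
    fin_cases i
    · exact (H10Coh.mres_mres E (le_top : U.1 ≤ ⊤) h s).symm
    · rfl)
  exact ⟨φ, w, fun U v => by rw [hw, hf, LinearEquiv.apply_symm_apply]⟩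

/-- A bundle of rank two whose endomorphisms are invertible or zero scalars has no nonzero section when its determinant
maps injectively to the structure sheaf. -/
theorem section_eq_zero_of_simple [IsIntegral X] {E L : X.Modules} (hE : FlatMod.IsFinLocFreeOfRank 2 E)
    (hL : ExtPow.IsExtPow 2 E L) (μ : L ⟶ Coh.structureModule X) [Mono μ]
    (hsimple : ∀ φ : E ⟶ E, ∃ r : Coh.Γtop X, φ = Formal.smulModΓ E r ∧ (r = 0 ∨ IsUnit r)) (s : Γ(E, ⊤)) :
    s = 0 := by
  obtain ⟨ψ, w, hw⟩ := exists_wedge hL s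
  let χ : E ⟶ E := w ≫ μ ≫ H11Tilde.homOfGlobal E s
  obtain ⟨r, hr, hr'⟩ := hsimple χ
  have happ : ∀ (U : X.Opens) (v : Γ(E, U)), χ.app U v =
      (show Γ(X, U) from μ.app U (w.app U v)) • E.presheaf.map (homOfLE (le_top : U ≤ ⊤)).op s :=
    fun U v => H11Tilde.homOfGlobal_app E s U _
  refine H29Ref.sec_ext E fun x hx => ?_
  obtain ⟨W, hxW, ⟨e⟩⟩ := hE x
  obtain ⟨V, hV, hxV, hVW⟩ := exists_isAffineOpen_mem_and_subset (x := x) (U := W) hxW
  obtain ⟨b⟩ := H8Props.FinLocFree.exists_basis_of_chart E e hVW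
  haveI : Nonempty V := ⟨⟨x, hxV⟩⟩
  let U : X.affineOpens := ⟨V, hV⟩
  let sV : Γ(E, V) := E.presheaf.map (homOfLE (le_top : V ≤ ⊤)).op s
  suffices hz : sV = 0 by
    rw [map_zero, ← TopCat.Presheaf.germ_res_apply E.presheaf (homOfLE (le_top : V ≤ ⊤)) x hxV]
    exact (congrArg _ hz).trans (map_zero _)
  rcases hr' with rfl | hu
  · have hzero : ∀ v : Γ(E, V), (show Γ(X, V) from μ.app V (w.app V v)) • sV = 0 := fun v => by
      refine (happ V v).symm.trans ?_
      rw [hr, Euler.smulModΓ_app]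
      erw [map_zero]
      exact zero_smul _ _
    let g : Γ(L, V) := (ψ U).symm (ιMulti Γ(X, V) 2 ![b 0, b 1])
    have hg : (show Γ(X, V) from μ.app V g) ≠ 0 := fun h => by
      have h1 : g = 0 := H10Coh.injective_app_of_mono' μ V (h.trans (map_zero (μ.app V).hom).symm)
      have h2 : ιMulti Γ(X, V) 2 ![b 0, b 1] = 0 := by
        rw [← (ψ U).apply_symm_apply (ιMulti Γ(X, V) 2 ![b 0, b 1])]
        exact (congrArg (ψ U) h1).trans (map_zero _)
      have hbij := H26Base.DualExt.bijective_smul_iMulti (R := Γ(X, V)) (M := Γ(E, V)) ![b 0, b 1] (by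
        have : (fun c : Fin 2 → Γ(X, V) => ∑ j, c j • ![b 0, b 1] j) = b.equivFun.symm := funext fun c => by
          rw [b.equivFun_symm_apply]; simp [Fin.sum_univ_two]
        rw [this]; exact b.equivFun.symm.bijective)
      exact one_ne_zero (hbij.1 (a₁ := 1) (a₂ := 0) (by simp [h2]))
    have hcomb : ∀ v : Γ(E, V), w.app V v = (ψ U).symm (ιMulti Γ(X, V) 2 ![sV, v]) := fun v =>
      (LinearEquiv.eq_symm_apply _).2 (hw U v)
    have hs : sV = b.repr sV 0 • b 0 + b.repr sV 1 • b 1 := by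
      conv_lhs => rw [← b.sum_repr sV, Fin.sum_univ_two]
    let A := ιMulti Γ(X, V) 2 (M := Γ(E, V))
    have hadd : ∀ (a c v : Γ(E, V)) (p q : Γ(X, V)), A ![p • a + q • c, v] = p • A ![a, v] + q • A ![c, v] := by
      intro a c v p q
      have e1 : ∀ z : Γ(E, V), ![z, v] = Function.update ![a, v] 0 z := fun z => by
        ext i; fin_cases i <;> simp [Function.update]
      rw [e1 (p • a + q • c), e1 c, AlternatingMap.map_update_add, AlternatingMap.map_update_smul,
        AlternatingMap.map_update_smul, ← e1 a, ← e1 c]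
    have hw1 : w.app V (b 1) = b.repr sV 0 • g := by
      rw [hcomb]
      refine (congrArg (ψ U).symm ?_).trans ((ψ U).symm.map_smul _ _)
      conv_lhs => rw [hs]
      show A ![_, _] = _
      rw [hadd, A.map_eq_zero_of_eq ![b 1, b 1] (i := 0) (j := 1) rfl (by decide), smul_zero, add_zero]
    have hw0 : w.app V (b 0) = (-b.repr sV 1) • g := by
      rw [hcomb]
      refine (congrArg (ψ U).symm ?_).trans ((ψ U).symm.map_smul _ _)
      conv_lhs => rw [hs]
      show A ![_, _] = _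
      rw [hadd, A.map_eq_zero_of_eq ![b 0, b 0] (i := 0) (j := 1) rfl (by decide), smul_zero, zero_add, neg_smul,
        ← smul_neg]
      refine congrArg (b.repr sV 1 • ·) ?_
      have hsw := A.map_swap ![b 0, b 1] (i := 0) (j := 1) (by decide)
      rwa [show ![b 0, b 1] ∘ Equiv.swap (0 : Fin 2) 1 = ![b 1, b 0] from funext fun i => by fin_cases i <;> simp] at hsw
    have kill : ∀ c : Γ(X, V), ∀ i : Fin 2, w.app V (b i) = c • g → c • sV = 0 := fun c i hc => by
      have h := hzero (b i)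
      rw [hc, Scheme.Modules.Hom.app_smul] at h
      erw [← smul_smul] at h
      have h' : ∀ j, (c * (show Γ(X, V) from μ.app V g)) * b.repr sV j = 0 := fun j => by
        have := congrArg (fun z => b.repr z j) ((smul_smul _ _ _).symm.trans h)
        simpa [mul_assoc] using this
      refine b.repr.injective (Finsupp.ext fun j => ?_)
      rcases mul_eq_zero.1 (h' j) with h1 | h1
      · rcases mul_eq_zero.1 h1 with h2 | h2
        · simp [h2]
        · exact absurd h2 hg
      · simp [h1]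
    have k1 := congrArg (fun z => b.repr z 0) (kill _ 1 hw1)
    have k0 := congrArg (fun z => b.repr z 1) (kill _ 0 hw0)
    simp only [map_smul, Finsupp.smul_apply, smul_eq_mul, map_zero, Finsupp.zero_apply, mul_self_eq_zero, neg_mul,
      neg_eq_zero] at k1 k0
    rw [hs, k1, k0, zero_smul, zero_smul, add_zero]
  · have hw0 : w.app V sV = 0 := (ψ U).injective (by
      rw [hw U sV, map_zero]
      exact (ιMulti Γ(X, V) 2).map_eq_zero_of_eq _ (i := 0) (j := 1) rfl (by decide))
    have h2 : X.presheaf.map (homOfLE (le_top : V ≤ ⊤)).op (show Γ(X, ⊤) from r) • sV = 0 := by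
      rw [← Euler.smulModΓ_app, ← hr]
      refine (happ V sV).trans ?_
      erw [hw0, map_zero]
      exact zero_smul _ _
    exact (IsUnit.map (X.presheaf.map (homOfLE (le_top : V ≤ ⊤)).op).hom hu).smul_eq_zero.1 h2

end Groth.Agent.H02CA.VBPn
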