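import Groth.Agent.H02CA.VBPn.SimpleTwist
import Groth.Agent.H02CA.VBPn.Wedge
import Groth.Agent.H22Alg.ExtPowTwist
import Groth.Agent.H29RR.MonoHom

/-!
# Simple rank two bundles on projective space are stable
-/

set_option autoImplicit false
set_option linter.style.haveILetI false
set_option maxHeartbeats 1600000
universe u

open CategoryTheory CategoryTheory.Limits AlgebraicGeometry
open Groth.Agent

namespace Groth.Agent.H02CA.VBPn

attribute [local instance 10000] H10Coh.hasSheafifyAb H10Coh.hasWeakSheafifyAb H10Coh.hasExtAb H10Coh.enoughInjAb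

variable {k : Type u} [Field k] {n : ℕ}

theorem h0_norm_zero {E : (CohB1.ProjSpace n k).Modules} (hE : FlatMod.IsFinLocFreeOfRank 2 E) (c k₀ : ℤ)
    (hdet : ∃ L, ExtPow.IsExtPow 2 E L ∧ Nonempty (L ≅ Twist.twistProjSpace n k c))
    (hk₀ : c + 2 * k₀ = 0 ∨ c + 2 * k₀ = -1)
    (hsimple : ∀ φ : E ⟶ E, ∃ c' : k, (SheafOfModules.toSheaf (CohB1.ProjSpace n k).ringCatSheaf).map φ =
      Coh.smulAb E (Coh.toGlobal (CohB1.ProjSpace.toSpec n k) c')) :
    Subsingleton (Coh.HH (CohB1.ProjSpace n k) (CohB1.tensorMod E (Twist.twistProjSpace n k k₀)) 0) := by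
  haveI : IsIntegral (CohB1.ProjSpace n k) := LeadPic.PnRel.isIntegral_projSpace (n := n) k
  haveI := H22Alg.CMHyper.noetherian k n
  have hT := H10Coh.Stab.isTwistFamily_projSpace n k
  have hs1 : ∀ ψ : E ⟶ E, ∃ r : k, ψ = Formal.smulModΓ E (Coh.toGlobal (CohB1.ProjSpace.toSpec n k) r) := fun ψ => by
    obtain ⟨r, hr⟩ := hsimple ψ
    exact ⟨r, (SheafOfModules.toSheaf _).map_injective (hr.trans (Euler.toSheaf_smulModΓ E _).symm)⟩
  have hk : PicF.IsInvertible (Twist.twistProjSpace n k k₀) := hT.inv k₀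
  let E' := CohB1.tensorMod E (Twist.twistProjSpace n k k₀)
  have hE' : FlatMod.IsFinLocFreeOfRank 2 E' := H29RR.rank_tensor hE hk
  have hflf : FlatMod.IsFinLocFree E' := fun x =>
    let ⟨U, hx, he⟩ := hE' x
    ⟨U, 2, hx, he⟩
  have hEq : Coh.IsQCoh E := H8Props.FinLocFree.isQCoh_of_isFinLocFree _ fun x =>
    let ⟨U, hx, he⟩ := hE x
    ⟨U, 2, hx, he⟩
  obtain ⟨M', hM'⟩ := H22Alg.ExtPowSheaf.exists_isExtPow 2 (H8Props.FinLocFree.isQCoh_of_isFinLocFree _ hflf)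
  obtain ⟨L, hL, ⟨eL⟩⟩ := hdet
  obtain ⟨e₁⟩ := H22Alg.ExtPowTwist.nonempty_iso hEq hk hL hM'
  obtain ⟨e₂⟩ := hT.add k₀ k₀
  obtain ⟨e₃⟩ := hT.add c (k₀ + k₀)
  let eM : M' ≅ Twist.twistProjSpace n k (c + (k₀ + k₀)) :=
    e₁ ≪≫ PicGrp.tensorModIso eL (PicGrp.tensorModIso (H10Coh.Tw.leftUnitIso _) (Iso.refl _) ≪≫ e₂) ≪≫ e₃
  obtain ⟨μ, hμ⟩ : ∃ μ : M' ⟶ Coh.structureModule (CohB1.ProjSpace n k), Mono μ := by
    rcases hk₀ with h | h
    · obtain ⟨z⟩ := hT.zero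
      refine ⟨(eM ≪≫ eqToIso (congrArg _ (by omega)) ≪≫ z).hom, inferInstance⟩
    · obtain ⟨ν, hν⟩ := exists_neg_one_hom' (Twist.twistProjSpace n k (c + (k₀ + k₀))) (c + (k₀ + k₀)) (by omega)
        (H17.PnExt.od_eq n k _)
      haveI := (H29RR.mono_of_ne_zero (hT.inv _) H11Ample.isInvertible_structureModule hν).1
      exact ⟨eM.hom ≫ ν, mono_comp _ _⟩
  have hsimple' : ∀ φ : E' ⟶ E', ∃ r : Coh.Γtop (CohB1.ProjSpace n k),
      φ = Formal.smulModΓ E' r ∧ (r = 0 ∨ IsUnit r) := fun φ => by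
    obtain ⟨r, hr⟩ := scalar_twist E k₀ hs1 (Twist.twistProjSpace n k k₀) (H17.PnExt.od_eq n k k₀) φ
    refine ⟨_, hr, ?_⟩
    rcases eq_or_ne r 0 with rfl | h0
    · exact Or.inl (map_zero _)
    · exact Or.inr ((IsUnit.mk0 r h0).map _)
  refine subsingleton_of_forall_eq 0 fun x => (H10Coh.HH0Equiv E').injective ?_
  haveI := hμ
  rw [map_zero]
  exact section_eq_zero_of_simple hE' hM' μ hsimple' _

end Groth.Agent.H02CA.VBPn
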