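import Groth.Agent.H02CA.VBPn.Resolution2
import Groth.Agent.H02CA.VBPn.Trivial
import Groth.Agent.H02CA.VBPn.KerInv
import Groth.Agent.H02CA.VBPn.Pairing
import Groth.Agent.H22Alg.ExtPowTwist
import Groth.Agent.H22Alg.PnPoints
import Groth.Agent.H29RR.Indecomposable
import Groth.Agent.H29CurveDual.CanonAux
import Groth.Agent.LeadPic.PnPic

/-!
# Stable rank two bundles on projective space are simple
-/

set_option autoImplicit false
set_option linter.style.haveILetI false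
set_option maxHeartbeats 1600000
universe u

open CategoryTheory CategoryTheory.Limits AlgebraicGeometry
open Groth.Agent

namespace Groth.Agent.H02CA.VBPn

attribute [local instance 10000] H10Coh.hasSheafifyAb H10Coh.hasWeakSheafifyAb H10Coh.hasExtAb H10Coh.enoughInjAb
attribute [local instance] H29RR.PnPic.overSpec

/-- A non-scalar element of a finite dimensional algebra over an algebraically closed field divides zero. -/
theorem exists_zero_product {k A : Type*} [Field k] [IsAlgClosed k] [Ring A] [Algebra k A] [Module.Finite k A]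
    [Nontrivial A] (a : A) (h : ∀ c : k, a ≠ algebraMap k A c) :
    ∃ x y : A, x ≠ 0 ∧ y ≠ 0 ∧ x * y = 0 := by
  have ha : IsIntegral k a := Algebra.IsIntegral.isIntegral a
  obtain ⟨c, hc⟩ := IsAlgClosed.exists_root (minpoly k a) (minpoly.degree_pos ha).ne'
  obtain ⟨q, hq⟩ := Polynomial.dvd_iff_isRoot.2 hc
  have hq0 : q ≠ 0 := fun h0 => minpoly.ne_zero ha (by rw [hq, h0, mul_zero])
  refine ⟨a - algebraMap k A c, Polynomial.aeval a q, sub_ne_zero.2 (h c), fun h0 => ?_, ?_⟩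
  · have h1 := minpoly.degree_le_of_ne_zero k a hq0 h0
    rw [hq, Polynomial.degree_mul, Polynomial.degree_X_sub_C, Polynomial.degree_eq_natDegree hq0] at h1
    have : (1 : WithBot ℕ) + (q.natDegree : ℕ) = ((1 + q.natDegree : ℕ) : WithBot ℕ) := by push_cast; rfl
    rw [this] at h1
    exact absurd (Nat.cast_le.1 h1) (by omega)
  · have h2 := congrArg (Polynomial.aeval a) hq
    rw [minpoly.aeval, map_mul, map_sub, Polynomial.aeval_X, Polynomial.aeval_C] at h2
    exact h2.symm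

variable {k : Type u} [Field k] [IsAlgClosed k] {n : ℕ}

/-- A rank two module on a point has sections. -/
theorem nontrivial_h0_zero {E : (CohB1.ProjSpace 0 k).Modules} (hE : FlatMod.IsFinLocFreeOfRank 2 E) :
    ¬ Subsingleton (Coh.HH (CohB1.ProjSpace 0 k) E 0) := fun h => by
  obtain ⟨e⟩ := exists_freeMod_iso_zero hE
  let M : Fin 2 → (CohB1.ProjSpace 0 k).Modules := fun _ => Coh.structureModule (CohB1.ProjSpace 0 k)
  have h1 : 𝟙 (Coh.structureModule (CohB1.ProjSpace 0 k)) = 0 := by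
    have h3 : Sigma.ι M 0 = 0 := by
      rw [show Sigma.ι M 0 = (Sigma.ι M 0 ≫ e.inv) ≫ e.hom by simp,
        H29CurveDual.hom_structure_eq_zero E h (Sigma.ι M 0 ≫ e.inv), zero_comp]
    rw [show (𝟙 (Coh.structureModule (CohB1.ProjSpace 0 k))) = Sigma.ι M 0 ≫ Euler.proj M 0 by
      rw [Euler.ι_proj, dif_pos rfl]; rfl, h3, zero_comp]
  haveI : IsIntegral (CohB1.ProjSpace 0 k) := LeadPic.PnRel.isIntegral_projSpace (n := 0) k
  have h4 : ((1 : Γ(CohB1.ProjSpace 0 k, ⊤))) = 0 :=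
    congrArg (fun f : Coh.structureModule (CohB1.ProjSpace 0 k) ⟶ _ => f.app ⊤ (1 : Γ(CohB1.ProjSpace 0 k, ⊤))) h1
  exact one_ne_zero h4

variable {E : (CohB1.ProjSpace (n + 1) k).Modules}

/-- Two nonzero endomorphisms of a normalised stable bundle have nonzero composite. -/
theorem comp_ne_zero (hE : FlatMod.IsFinLocFreeOfRank 2 E) (c k₀ : ℤ)
    (hdet : ∃ L, ExtPow.IsExtPow 2 E L ∧ Nonempty (L ≅ Twist.twistProjSpace (n + 1) k c))
    (hk₀ : c + 2 * k₀ = 0 ∨ c + 2 * k₀ = -1)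
    (h0 : Subsingleton (Coh.HH (CohB1.ProjSpace (n + 1) k) (CohB1.tensorMod E (Twist.twistProjSpace (n + 1) k k₀)) 0))
    (χ ψ : E ⟶ E) (hχ : χ ≠ 0) (hψ : ψ ≠ 0) : χ ≫ ψ ≠ 0 := by
  intro h
  haveI : IsIntegral (CohB1.ProjSpace (n + 1) k) := LeadPic.PnRel.isIntegral_projSpace (n := n + 1) k
  haveI := H22Alg.CMHyper.noetherian k (n + 1)
  have hT := H10Coh.Stab.isTwistFamily_projSpace (n + 1) k
  have hflf : FlatMod.IsFinLocFree E := fun x =>
    let ⟨U, hx, he⟩ := hE x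
    ⟨U, 2, hx, he⟩
  have hEq : Coh.IsQCoh E := H8Props.FinLocFree.isQCoh_of_isFinLocFree _ hflf
  have hK := isInvertible_kernel (fun x => H22Alg.PnPoints.isRegularLocalRing_stalk (n + 1) k x) hE ψ χ hψ hχ h
  obtain ⟨a, ⟨eK⟩⟩ : ∃ a : ℤ, Nonempty (kernel ψ ≅ Twist.twistProjSpace (n + 1) k a) :=
    LeadPic.Pn.exists_iso_twist (n + 1) k hK
  let g : E ⟶ Twist.twistProjSpace (n + 1) k a := kernel.lift ψ χ h ≫ eK.hom
  let i : Twist.twistProjSpace (n + 1) k a ⟶ E := eK.inv ≫ kernel.ι ψ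
  have hg : g ≠ 0 := fun hg => hχ (by
    have hl : kernel.lift ψ χ h = 0 := by rw [← cancel_mono eK.hom, zero_comp]; exact hg
    rw [← kernel.lift_ι ψ χ h, hl, zero_comp])
  have hi : i ≠ 0 := fun hi => hχ (by
    have hι : kernel.ι ψ = 0 := by rw [← cancel_epi eK.inv, comp_zero]; exact hi
    rw [← kernel.lift_ι ψ χ h, hι, comp_zero])
  have hlow : ∀ j : ℤ, Nontrivial (Coh.HH (CohB1.ProjSpace (n + 1) k)
      (CohB1.tensorMod E (Twist.twistProjSpace (n + 1) k j)) 0) → k₀ < j := fun j hj => by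
    by_contra hle
    have h' := h0_twist_mono hflf k₀ h0 (k₀ - j).toNat
    rw [show k₀ - ((k₀ - j).toNat : ℤ) = j by omega] at h'
    exact not_nontrivial_iff_subsingleton.2 h' hj
  -- the section given by the inclusion
  obtain ⟨z⟩ := hT.zero
  obtain ⟨ea⟩ := hT.add a (-a)
  have h1 : k₀ < -a := hlow _ (H29CurveDual.nontrivial_of_hom_ne_zero (hT.inv (-a))
    (ea ≪≫ eqToIso (congrArg _ (add_neg_cancel a)) ≪≫ z) hi)
  -- the section given by the projection
  let j : ℤ := a - c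
  have hj : PicF.IsInvertible (Twist.twistProjSpace (n + 1) k j) := hT.inv j
  let E' := CohB1.tensorMod E (Twist.twistProjSpace (n + 1) k j)
  have hE' : FlatMod.IsFinLocFreeOfRank 2 E' := H29RR.rank_tensor hE hj
  have hflf' : FlatMod.IsFinLocFree E' := fun x =>
    let ⟨U, hx, he⟩ := hE' x
    ⟨U, 2, hx, he⟩
  obtain ⟨M', hM'⟩ := H22Alg.ExtPowSheaf.exists_isExtPow 2 (H8Props.FinLocFree.isQCoh_of_isFinLocFree _ hflf')
  obtain ⟨L, hL, ⟨eL⟩⟩ := hdet
  obtain ⟨e₁⟩ := H22Alg.ExtPowTwist.nonempty_iso hEq hj hL hM'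
  obtain ⟨e₂⟩ := hT.add j j
  obtain ⟨e₃⟩ := hT.add c (j + j)
  obtain ⟨e₄⟩ := hT.add a j
  let eM : M' ≅ Twist.twistProjSpace (n + 1) k (c + (j + j)) :=
    e₁ ≪≫ PicGrp.tensorModIso eL (PicGrp.tensorModIso (H10Coh.Tw.leftUnitIso _) (Iso.refl _) ≪≫ e₂) ≪≫ e₃
  let T := H29RR.twist (Twist.twistProjSpace (n + 1) k j)
  let f : E' ⟶ M' := T.map g ≫ e₄.hom ≫ (eqToIso (congrArg (fun t => Twist.twistProjSpace (n + 1) k t)
    (show a + j = c + (j + j) by simp only [j]; ring))).hom ≫ eM.inv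
  have hf : f ≠ 0 := fun hf => hg (H29RR.twist_map_eq_zero hj (by
    refine (cancel_mono (e₄.hom ≫ (eqToIso (congrArg (fun t => Twist.twistProjSpace (n + 1) k t)
      (show a + j = c + (j + j) by simp only [j]; ring))).hom ≫ eM.inv)).1 ?_
    exact hf.trans zero_comp.symm))
  obtain ⟨t, ht⟩ := exists_section_of_hom hE' hM' f hf
  have h2 : k₀ < a - c := hlow _ (by
    rcases subsingleton_or_nontrivial (Coh.HH (CohB1.ProjSpace (n + 1) k) E' 0) with hs | hs
    · exact absurd ((H10Coh.HH0Equiv E').symm.injective (Subsingleton.elim _ _)) ht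
    · exact hs)
  omega

/-- Stable rank two bundles are simple. -/
theorem scalar_of_h0_norm_zero (hE : FlatMod.IsFinLocFreeOfRank 2 E) (c k₀ : ℤ)
    (hdet : ∃ L, ExtPow.IsExtPow 2 E L ∧ Nonempty (L ≅ Twist.twistProjSpace (n + 1) k c))
    (hk₀ : c + 2 * k₀ = 0 ∨ c + 2 * k₀ = -1)
    (h0 : Subsingleton (Coh.HH (CohB1.ProjSpace (n + 1) k) (CohB1.tensorMod E (Twist.twistProjSpace (n + 1) k k₀)) 0))
    (φ : E ⟶ E) : ∃ c' : k, φ = Formal.smulMod k E c' := by
  haveI : IsProper (CohB1.ProjSpace (n + 1) k ↘ Spec (CommRingCat.of k)) := H27Weil.isProper_toSpec (n + 1) k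
  have hflf : FlatMod.IsFinLocFree E := fun x =>
    let ⟨U, hx, he⟩ := hE x
    ⟨U, 2, hx, he⟩
  have hEc := H16Derived.KFlat.Stalk.isCoh_of_isFinLocFree hflf
  haveI : Module.Finite k (End E) := H29RR.finite_hom (k := k) hEc hEc
  by_contra hno
  push Not at hno
  by_cases hn : Nontrivial (End E)
  · obtain ⟨x, y, hx, hy, hxy⟩ := exists_zero_product (k := k) (A := End E) φ fun c' hc' => hno c'
      (hc'.trans ((Algebra.algebraMap_eq_smul_one c').trans (KLin.smul_id _ _)))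
    exact comp_ne_zero hE c k₀ hdet hk₀ h0 y x hy hx hxy
  · exact hno 0 (@Subsingleton.elim (End E) (not_nontrivial_iff_subsingleton.1 hn) _ _)

end Groth.Agent.H02CA.VBPn
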